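import Cfsg.Agent.Lib.SuzRec.Model

/-!
Automorphisms of the graph are determined by eight points; small subgroups given by words.
-/

set_option autoImplicit false
set_option maxRecDepth 20000

namespace CfsgLib.SuzRec

open Cfsg CfsgLib.CosetEnum CfsgLib.SuzPres MulAction
open scoped Pointwise

attribute [local irreducible] subMask0 subMask1 baseL rows

/-- the automorphisms of the graph -/
def AutR0 : Subgroup (Equiv.Perm Pt) where
  carrier := {g | ∀ x y, R0 (g x) (g y) ↔ R0 x y}
  one_mem' := fun x y => Iff.rfl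
  mul_mem' := fun {g h} hg hh x y => (hg (h x) (h y)).trans (hh x y)
  inv_mem' := fun {g} hg x y => by
    refine (hg (g⁻¹ x) (g⁻¹ y)).symm.trans ?_
    simp

theorem rho_mem (g : Cfsg.Spor.Suz) : rho g ∈ AutR0 := fun _ _ => R0_smul g

/-- a base point -/
noncomputable def bp (i : ℕ) : Pt :=
  if h : basePts.getD i 0 < certA.N then ⟨basePts.getD i 0, h⟩ else p00

theorem bp_val {i : ℕ} (hi : i < 25) : (bp i : ℕ) = basePts.getD i 0 := by
  have h := base_ok.1
  simp only [baseOK, Bool.and_eq_true, List.all_eq_true, List.mem_range, Nat.blt_eq] at h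
  obtain ⟨⟨⟨-, hl'⟩, -⟩, hall⟩ := h
  have := (hall i (by rw [Nat.eq_of_beq_eq_true hl']; exact hi)).2
  rw [bp, dif_pos (lt_of_lt_of_eq this N_eq.symm)]

theorem bp_zero : bp 0 = p00 := by
  refine Fin.ext ((bp_val (by norm_num)).trans ?_)
  decide +kernel

theorem bp_inj {i j : ℕ} (hi : i < 25) (hj : j < 25) (h : bp i = bp j) : i = j := by
  have hn : basePts.Nodup ∧ basePts.length = 25 := by decide +kernel
  have e := congrArg Fin.val h
  rw [bp_val hi, bp_val hj, List.getD_eq_getElem _ _ (by omega), List.getD_eq_getElem _ _ (by omega)] at e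
  exact (hn.1.getElem_inj_iff).1 e

theorem testBit_fullM {v : ℕ} (hv : v < 1782) : fullM.testBit v = true := by
  rw [fullM, Nat.testBit_two_pow_sub_one, decide_eq_true_eq]; exact hv

theorem cell_mem {g : Equiv.Perm Pt} (hg : g ∈ AutR0) (t : Pt) : ∀ {l : List (ℕ × ℕ)},
    (∀ q ∈ l, ∃ b : Pt, (b : ℕ) = q.1 ∧ g b = b ∧ b ≠ t ∧ ∀ y : Pt, q.2.testBit (y : ℕ) = true ↔ R0 b y) →
    (cellMask l t).testBit (g t : ℕ) = true
  | [], _ => by rw [cellMask]; exact testBit_fullM (pt_lt _)
  | (b, r) :: l, h => by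
    obtain ⟨⟨bq, hb, hgb, hne, hrow⟩, hl⟩ := List.forall_mem_cons.1 h
    rw [cellMask, Nat.testBit_and, cell_mem hg t hl, Bool.true_and, Nat.testBit_and, Bool.and_eq_true]
    have hiff : R0 bq (g t) ↔ R0 bq t := by
      conv_lhs => rw [← hgb]
      exact hg bq t
    refine ⟨?_, ?_⟩
    · by_cases ht : r.testBit t = true
      · rw [if_pos ht, hrow, hiff, ← hrow]; exact ht
      · rw [if_neg ht, Nat.testBit_xor, testBit_fullM (pt_lt _), Bool.true_xor, Bool.not_eq_true']
        rw [← Bool.not_eq_true]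
        intro h1
        exact ht (by rw [hrow, ← hiff, ← hrow]; exact h1)
    · rw [Nat.testBit_xor, testBit_fullM (pt_lt _), Bool.true_xor, Bool.not_eq_true', Nat.testBit_two_pow,
        decide_eq_false_iff_not]
      intro e
      exact hne (g.injective (hgb.trans (Fin.ext (hb.trans e))))

theorem base_entry {g : Equiv.Perm Pt} {k : ℕ} (hk : k ≤ 25) (hfix : ∀ i < k, g (bp i) = bp i) (t : Pt)
    (ht : ∀ i < k, bp i ≠ t) : ∀ q ∈ baseL.take k,
      ∃ b : Pt, (b : ℕ) = q.1 ∧ g b = b ∧ b ≠ t ∧ ∀ y : Pt, q.2.testBit (y : ℕ) = true ↔ R0 b y := by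
  intro q hq
  obtain ⟨i, hi, rfl⟩ := List.mem_iff_getElem.1 hq
  rw [List.length_take, base_ok.2] at hi
  have hik : i < k := by omega
  refine ⟨bp i, ?_, hfix i hik, ht i hik, fun y => ?_⟩
  · rw [bp_val (by omega), List.getElem_take]
    unfold baseL
    rw [List.getElem_map, List.getElem_range]
  · rw [List.getElem_take]
    unfold baseL
    rw [List.getElem_map, List.getElem_range]
    exact row_base (by omega) _ (bp_val (by omega)) y

theorem eq_one_of_fix {g : Equiv.Perm Pt} (hg : g ∈ AutR0) (hfix : ∀ i < 8, g (bp i) = bp i) : g = 1 := by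
  have hall : ∀ k, k ≤ 25 → ∀ i < k, g (bp i) = bp i := by
    intro k
    induction k with
    | zero => intro _ i hi; omega
    | succ k ih =>
      intro hk i hi
      rcases Nat.lt_succ_iff_lt_or_eq.1 hi with h | h
      · exact ih (by omega) i h
      · subst h
        by_cases h8 : i < 8
        · exact hfix i h8
        · have hd := List.all_eq_true.1 derived_ok (i - 8) (List.mem_range.2 (by omega))
          rw [Nat.sub_add_cancel (by omega)] at hd
          have hm := cell_mem hg (bp i) (base_entry (k := i) (by omega) (ih (by omega)) (bp i)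
            fun j hj e => by have := bp_inj (by omega) (by omega) e; omega)
          rw [bp_val (i := i) (by omega), Nat.eq_of_beq_eq_true hd, Nat.testBit_two_pow, decide_eq_true_eq,
            ← bp_val (i := i) (by omega)] at hm
          exact Fin.ext hm.symm
  refine Equiv.ext fun v => ?_
  by_cases hv : ∃ i < 25, bp i = v
  · obtain ⟨i, hi, rfl⟩ := hv
    exact hall 25 le_rfl i hi
  · push Not at hv
    have hd := allUp_pt points_ok v
    simp only [pointOK, strict_eq, show ltB (v : ℕ) 1782 = true from ltB_iff.mpr (pt_lt v), pick_true,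
      Bool.or_eq_true, List.any_eq_true] at hd
    have hm := cell_mem hg v (base_entry (k := 25) le_rfl (hall 25 le_rfl) v hv)
    rw [List.take_of_length_le base_ok.2.le] at hm
    rcases hd with ⟨b, hb, e⟩ | hd
    · obtain ⟨i, hi, rfl⟩ := List.mem_iff_getElem.1 hb
      have hl : basePts.length = 25 := by decide +kernel
      refine absurd (Fin.ext ?_) (hv i (by omega))
      rw [bp_val (by omega), List.getD_eq_getElem _ _ hi]
      exact (Nat.eq_of_beq_eq_true e).symm
    · rw [Nat.eq_of_beq_eq_true hd, Nat.testBit_two_pow, decide_eq_true_eq] at hm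
      exact Fin.ext hm.symm

theorem rho_injective : Function.Injective rho := card_faithful.2

/-- Two elements of the stabilizer agreeing on eight points are equal. -/
theorem sameB_spec {w w' : List ℕ} (h : sameB w w' = true) : wd w = wd w' := by
  simp only [sameB, Bool.and_eq_true, List.all_eq_true] at h
  obtain ⟨⟨hw, hw'⟩, hall⟩ := h
  have h1 := lt_seven (w := w) (by simpa only [List.all_eq_true] using hw)
  have h2 := lt_seven (w := w') (by simpa only [List.all_eq_true] using hw')
  refine inv_mul_eq_one.1 (rho_injective ?_) |>.symm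
  rw [map_one]
  refine eq_one_of_fix (rho_mem _) fun i hi => ?_
  show ((wd w')⁻¹ * wd w) • bp i = bp i
  rw [mul_smul, inv_smul_eq_iff]
  refine Fin.ext ?_
  rw [wd_smul h1.2, wd_smul h2.2]
  refine Nat.eq_of_beq_eq_true (hall (bp i : ℕ) ?_)
  have hl : (basePts.take 8).length = 8 := by decide +kernel
  have hlen : basePts.length = 25 := by decide +kernel
  rw [bp_val (show i < 25 by omega), List.getD_eq_getElem _ _ (show i < basePts.length by omega)]
  have hi' : i < (basePts.take 8).length := by omega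
  have := List.getElem_mem hi'
  rwa [List.getElem_take] at this

/-- stabilizers along the base -/
noncomputable def St : ℕ → Subgroup (Equiv.Perm Pt)
  | 0 => AutR0
  | k + 1 => St k ⊓ stabilizer (Equiv.Perm Pt) (bp k)

theorem mem_St {k : ℕ} {g : Equiv.Perm Pt} : g ∈ St k ↔ g ∈ AutR0 ∧ ∀ i < k, g (bp i) = bp i := by
  induction k with
  | zero => simp [St]
  | succ k ih =>
    rw [St, Subgroup.mem_inf, ih, mem_stabilizer_iff]
    constructor
    · rintro ⟨⟨h1, h2⟩, h3⟩
      refine ⟨h1, fun i hi => ?_⟩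
      rcases Nat.lt_succ_iff_lt_or_eq.1 hi with h | rfl
      · exact h2 i h
      · exact h3
    · rintro ⟨h1, h2⟩
      exact ⟨⟨h1, fun i hi => h2 i (by omega)⟩, h2 k (by omega)⟩

theorem card_St_step (k : ℕ) : Nat.card ↥(St k) =
    (orbit ↥(St k) (bp k)).ncard * Nat.card ↥(St (k + 1)) := by
  have h := (stabilizer ↥(St k) (bp k)).card_mul_index
  rw [index_stabilizer, mul_comm] at h
  rw [← h]
  congr 1
  refine Nat.card_congr
    { toFun := fun g => ⟨g.1.1, Subgroup.mem_inf.2 ⟨g.1.2, g.2⟩⟩
      invFun := fun g => ⟨⟨g.1, (Subgroup.mem_inf.1 g.2).1⟩, (Subgroup.mem_inf.1 g.2).2⟩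
      left_inv := fun g => rfl
      right_inv := fun g => rfl }

theorem orbit_le_choice {k : ℕ} (h1 : 1 ≤ k) (h8 : k < 8) :
    (orbit ↥(St k) (bp k)).ncard ≤ choices.getD (k - 1) 0 := by
  have hc : choices.getD (k - 1) 0 = popc (cellMask (baseL.take k) (basePts.getD k 0)) 1782 := by
    unfold choices
    rw [List.getD_eq_getElem _ _ (by rw [List.length_map, List.length_range]; omega), List.getElem_map,
      List.getElem_range, Nat.sub_add_cancel h1]
  rw [hc, ← card_mset, ← Set.ncard_coe_finset]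
  refine Set.ncard_le_ncard ?_ (Finset.finite_toSet _)
  rintro _ ⟨g, rfl⟩
  obtain ⟨hg, hfix⟩ := mem_St.1 g.2
  rw [Finset.mem_coe, mem_mset, ← bp_val (by omega : k < 25)]
  exact cell_mem hg (bp k) (base_entry (by omega) hfix (bp k) fun j hj e => by
    have := bp_inj (by omega) (by omega) e; omega)

theorem card_AutR0 : Nat.card ↥AutR0 ≤ 14 * 448345497600 := by
  have h0 : (orbit ↥(St 0) (bp 0)).ncard ≤ 1782 :=
    (Set.ncard_le_ncard (Set.subset_univ _) Set.finite_univ).trans (by
      rw [Set.ncard_univ, Nat.card_fin, N_eq])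
  have h8 : Nat.card ↥(St 8) = 1 := by
    have : St 8 = ⊥ := (Subgroup.eq_bot_iff_forall _).2 fun g hg =>
      eq_one_of_fix (mem_St.1 hg).1 (mem_St.1 hg).2
    rw [this, Subgroup.card_bot]
  have hlen : choices.length = 7 := by unfold choices; simp
  have hp : choices.prod = choices.getD 0 0 * (choices.getD 1 0 * (choices.getD 2 0 * (choices.getD 3 0 *
      (choices.getD 4 0 * (choices.getD 5 0 * choices.getD 6 0))))) := by
    match choices, hlen with
    | [a, b, c, d, e, f, g], _ => simp [List.prod_cons]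
  have hb := choices_ok
  rw [hp] at hb
  calc Nat.card ↥AutR0 = Nat.card ↥(St 0) := rfl
    _ ≤ 1782 * (choices.getD 0 0 * (choices.getD 1 0 * (choices.getD 2 0 * (choices.getD 3 0 *
        (choices.getD 4 0 * (choices.getD 5 0 * (choices.getD 6 0 * 1))))))) := by
      rw [card_St_step 0, card_St_step 1, card_St_step 2, card_St_step 3, card_St_step 4, card_St_step 5,
        card_St_step 6, card_St_step 7, h8]
      exact Nat.mul_le_mul h0 (Nat.mul_le_mul (orbit_le_choice (k := 1) le_rfl (by norm_num))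
        (Nat.mul_le_mul (orbit_le_choice (k := 2) (by norm_num) (by norm_num))
        (Nat.mul_le_mul (orbit_le_choice (k := 3) (by norm_num) (by norm_num))
        (Nat.mul_le_mul (orbit_le_choice (k := 4) (by norm_num) (by norm_num))
        (Nat.mul_le_mul (orbit_le_choice (k := 5) (by norm_num) (by norm_num))
        (Nat.mul_le_mul (orbit_le_choice (k := 6) (by norm_num) (by norm_num))
        (Nat.mul_le_mul (orbit_le_choice (k := 7) (by norm_num) (by norm_num)) le_rfl)))))))
    _ ≤ 1782 * (14 * 251596800) := by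
      rw [mul_one]
      exact Nat.mul_le_mul_left _ hb
    _ = 14 * 448345497600 := by norm_num

/-! ### Small subgroups -/

theorem isPGroup_closure_singleton_sup {p : ℕ} [Fact p.Prime] {G : Type*} [Group G] {H : Subgroup G}
    [Finite G] (hH : IsPGroup p H) {x : G} (hp : x ^ p ∈ H) (hn : ∀ h ∈ H, x * h * x⁻¹ ∈ H) :
    IsPGroup p (H ⊔ Subgroup.zpowers x : Subgroup G) := by
  obtain ⟨k, hk⟩ := hH ⟨x ^ p, hp⟩
  have hx : x ^ p ^ (k + 1) = 1 := by
    have := congrArg Subtype.val hk
    rwa [Subgroup.coe_pow, Subgroup.coe_one, ← pow_mul, ← pow_succ'] at this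
  have hz : IsPGroup p (Subgroup.zpowers x) := fun z => ⟨k + 1, by
    obtain ⟨n, hn'⟩ := Subgroup.mem_zpowers_iff.1 z.2
    refine Subtype.ext ?_
    rw [Subgroup.coe_pow, ← hn', ← zpow_natCast, ← zpow_mul, mul_comm, zpow_mul, zpow_natCast, hx,
      one_zpow, Subgroup.coe_one]⟩
  refine hH.to_sup_of_normal_left' hz ?_
  rw [Subgroup.zpowers_le, Subgroup.mem_normalizer_iff]
  intro h
  refine ⟨hn h, fun hh => ?_⟩
  have : H.map (MulAut.conj x).toMonoidHom = H :=
    Subgroup.eq_of_le_of_card_ge (by rintro _ ⟨y, hy, rfl⟩; exact hn y hy)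
      (le_of_eq (Nat.card_congr (H.equivMapOfInjective _ (MulAut.conj x).injective).toEquiv))
  rw [← this] at hh
  obtain ⟨y, hy, e⟩ := hh
  exact (mul_left_cancel (mul_right_cancel e : x * y = x * h)) ▸ hy

theorem closure_snoc {G : Type*} [Group G] (f : ℕ → G) (k : ℕ) :
    Subgroup.closure {z | ∃ i < k + 1, f i = z} =
      Subgroup.closure {z | ∃ i < k, f i = z} ⊔ Subgroup.zpowers (f k) := by
  rw [Subgroup.zpowers_eq_closure, ← Subgroup.closure_union]
  congr 1
  ext z
  constructor
  · rintro ⟨i, hi, rfl⟩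
    rcases Nat.lt_succ_iff_lt_or_eq.1 hi with h | rfl
    · exact Or.inl ⟨i, h, rfl⟩
    · exact Or.inr rfl
  · rintro (⟨i, hi, rfl⟩ | rfl)
    · exact ⟨i, by omega, rfl⟩
    · exact ⟨k, by omega, rfl⟩

/-- the elements of a list of words as elements of the stabilizer -/
noncomputable def wm (ws : List (List ℕ)) (i : ℕ) : Cfsg.Spor.Suz := wd (ws.getD i [])

theorem closure_wm (ws : List (List ℕ)) :
    Subgroup.closure {z | ∃ i < ws.length, wm ws i = z} = Subgroup.closure {z | ∃ w ∈ ws, wd w = z} := by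
  congr 1
  ext z
  constructor
  · rintro ⟨i, hi, rfl⟩
    exact ⟨ws.getD i [], by rw [List.getD_eq_getElem _ _ hi]; exact List.getElem_mem hi, rfl⟩
  · rintro ⟨w, hw, rfl⟩
    obtain ⟨i, hi, rfl⟩ := List.mem_iff_getElem.1 hw
    exact ⟨i, hi, by rw [wm, List.getD_eq_getElem _ _ hi]⟩

theorem catW_mem (ws : List (List ℕ)) {e : List ℕ} {k : ℕ} (he : ∀ i ∈ e, i < k) :
    wd (catW ws e) ∈ Subgroup.closure {z | ∃ i < k, wm ws i = z} := by
  induction e with
  | nil => rw [show catW ws [] = [] from rfl, wd_nil]; exact one_mem _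
  | cons a e ih =>
    rw [show catW ws (a :: e) = ws.getD a [] ++ catW ws e from rfl, wd_append]
    exact mul_mem (Subgroup.subset_closure ⟨a, he a (List.mem_cons_self ..), rfl⟩)
      (ih fun i hi => he i (List.mem_cons_of_mem _ hi))

/-- The series gives a 2-group. -/
theorem q_isPGroup : IsPGroup 2 (Subgroup.closure {z | ∃ w ∈ qW, wd w = z}) := by
  haveI : Fact (Nat.Prime 2) := ⟨Nat.prime_two⟩
  rw [← closure_wm]
  have h := q_ok
  simp only [qOK, Bool.and_eq_true, List.all_eq_true, List.mem_range, Nat.blt_eq] at h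
  suffices hk : ∀ k, k ≤ qW.length → IsPGroup 2 (Subgroup.closure {z | ∃ i < k, wm qW i = z}) from
    hk _ le_rfl
  intro k
  induction k with
  | zero =>
    intro _
    have : Subgroup.closure {z | ∃ i < 0, wm qW i = z} = ⊥ := by
      rw [Subgroup.closure_eq_bot_iff]; rintro z ⟨i, hi, -⟩; omega
    rw [this]
    exact IsPGroup.of_bot
  | succ k ih =>
    intro hk
    obtain ⟨⟨hsq, hsl⟩, hconj⟩ := h.2 k (by omega)
    rw [closure_snoc]
    refine isPGroup_closure_singleton_sup (ih (by omega)) ?_ ?_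
    · rw [pow_two, wm, ← wd_append, sameB_spec hsq]
      exact catW_mem qW hsl
    · intro z hz
      induction hz using Subgroup.closure_induction with
      | mem z hz =>
        obtain ⟨j, hj, rfl⟩ := hz
        obtain ⟨hc, hcl⟩ := hconj j hj
        rw [wm, wm, ← wd_reverse, ← wd_append, ← wd_append, sameB_spec hc]
        exact catW_mem qW hcl
      | one => simp
      | mul a b _ _ ha hb =>
        have e : wm qW k * (a * b) * (wm qW k)⁻¹ =
            wm qW k * a * (wm qW k)⁻¹ * (wm qW k * b * (wm qW k)⁻¹) := by group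
        rw [e]; exact mul_mem ha hb
      | inv a _ ha =>
        have e : wm qW k * a⁻¹ * (wm qW k)⁻¹ = (wm qW k * a * (wm qW k)⁻¹)⁻¹ := by group
        rw [e]; exact inv_mem ha

/-- The two elements of order five give a 5-group. -/
theorem p_isPGroup : IsPGroup 5 (Subgroup.closure {z | ∃ w ∈ pW, wd w = z}) := by
  haveI : Fact (Nat.Prime 5) := ⟨by norm_num⟩
  rw [← closure_wm]
  have h := five_ok
  simp only [fiveOK, Bool.and_eq_true] at h
  obtain ⟨⟨⟨⟨ha, hb⟩, hc⟩, hl⟩, -⟩ := h
  have hpow : ∀ (n : ℕ) (w : List ℕ), wd (List.replicate n w).flatten = wd w ^ n := by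
    intro n w
    induction n with
    | zero => exact wd_nil.trans (pow_zero _).symm
    | succ n ih => rw [List.replicate_succ, List.flatten_cons, wd_append, ih, pow_succ']
  have ha' := sameB_spec ha
  have hb' := sameB_spec hb
  rw [hpow, wd_nil] at ha' hb'
  have hc' := sameB_spec hc
  rw [wd_append, wd_append] at hc'
  rw [Nat.eq_of_beq_eq_true hl]
  have h0 : Subgroup.closure {z | ∃ i < 0, wm pW i = z} = ⊥ := by
    rw [Subgroup.closure_eq_bot_iff]; rintro z ⟨i, hi, -⟩; omega
  rw [closure_snoc, closure_snoc, h0, bot_sup_eq]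
  refine isPGroup_closure_singleton_sup ?_ (by rw [show wm pW 1 ^ 5 = 1 from hb']; exact one_mem _) fun z hz => ?_
  · have := isPGroup_closure_singleton_sup (p := 5) (H := (⊥ : Subgroup Cfsg.Spor.Suz)) IsPGroup.of_bot
      (x := wm pW 0) (by rw [show wm pW 0 ^ 5 = 1 from ha']; exact one_mem _) (fun h hh => by rw [Subgroup.mem_bot] at hh; simp [hh])
    rwa [bot_sup_eq] at this
  · obtain ⟨n, rfl⟩ := Subgroup.mem_zpowers_iff.1 hz
    have e : Commute (wm pW 1) (wm pW 0 ^ n) := Commute.zpow_right hc' n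
    rw [e.eq, mul_inv_cancel_right]
    exact hz

end CfsgLib.SuzRec
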