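import Cfsg.Agent.Lib.SuzRec.Defs

/-!
The base and the degrees.
-/

set_option autoImplicit false
set_option Elab.async false
set_option maxRecDepth 30000

namespace CfsgLib.SuzRec

open CfsgLib.CosetEnum

theorem base_ok : baseOK = true ∧ baseL.length = 25 := by decide +kernel

theorem choices_ok : choices.prod ≤ 14 * 251596800 := by decide +kernel

theorem derived_ok : derivedOK = true := by decide +kernel

theorem points_ok : allUp pointOK 11 0 = true := by decide +kernel

theorem deg_ok : degOK = true := by decide +kernel

end CfsgLib.SuzRec
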