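import Cfsg.Agent.Lib.SuzRec.Defs

/-!
The orbits of small subgroups.
-/

set_option autoImplicit false
set_option Elab.async false
set_option maxRecDepth 30000

namespace CfsgLib.SuzRec

open CfsgLib.SuzPres

theorem pOrbs : orbsOK pW subMask0 pRep pMask pSize pTrees = true := by decide +kernel
theorem jOrbs : orbsOK jW subMask0 jDRep jDMask jDSize jDTrees = true := by decide +kernel
theorem lOrbsD : orbsOK lW subMask0 lDRep lDMask lDSize lDTrees = true := by decide +kernel
theorem lOrbsS : orbsOK lW subMask1 lSRep lSMask lSSize lSTrees = true := by decide +kernel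
theorem eOrbs : orbsOK eW subMask0 eDRep eDMask eDSize eDTrees = true := by decide +kernel
theorem qOrbs : orbsOK qW subMask1 qSRep qSMask qSSize qSTrees = true := by decide +kernel

theorem fixes : fixOK jW 47 = true ∧ fixOK lW 1 = true ∧ fixOK qW 1 = true := by decide +kernel

theorem blk_ok : blkOK = true := by decide +kernel

theorem five_ok : fiveOK = true := by decide +kernel

theorem q_ok : qOK = true := by decide +kernel

theorem nbrs : rowPts.getD 1 0 = 1 ∧ rowPts.getD (pPos.getD 0 0) 0 = 47 ∧ pPos.getD 0 0 < rows.length ∧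
    jDRep = [47, jDRep.getD 1 0, jDRep.getD 2 0] ∧ jDMask.getD 0 0 = 2 ^ 47 ∧
    rows.getD (pPos.getD 0 0) 0 &&& subMask0 = jDMask.getD 1 0 ∧
    rows.getD 1 0 &&& subMask0 = lDMask.getD 0 0 ∧ rows.getD 1 0 &&& subMask1 = lSMask.getD 2 0 ∧
    jDSize = [1, 100, 315] ∧ lDSize = [96, 320] ∧ lSSize = [1, 20, 320, 1024] ∧ eDSize = [160, 256] ∧
    qSRep.getD 0 0 = 1 ∧ qSSize = [1, 4, 16, 64, 256, 1024] ∧
    qSMask.getD 0 0 ||| qSMask.getD 1 0 = blk.foldr (fun x m => 2 ^ x ||| m) 0 ∧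
    blk.length = 5 ∧ blk.Nodup ∧ blk.getD 0 0 = 1 ∧ pRep.getD 0 0 = 47 ∧ pSize.length = 20 ∧
    pSize.getD 0 0 = 1 ∧ pMask.getD 0 0 = 2 ^ 47 := by decide +kernel

end CfsgLib.SuzRec
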