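import Cfsg.Agent.Lib.SuzRec.Defs

/-!
The rows.
-/

set_option autoImplicit false
set_option Elab.async false
set_option maxRecDepth 30000

namespace CfsgLib.SuzRec

theorem rows_head : rows.length = 129 ∧ rowPts.length = 129 ∧ rowPts.getD 0 1 = 0 ∧
    rows.getD 0 0 = CfsgLib.SuzPres.subMask0 := by decide +kernel

theorem rowsA : ((List.range 32).all fun i => rowOK (i + 1)) = true := by decide +kernel
theorem rowsB : ((List.range 32).all fun i => rowOK (i + 33)) = true := by decide +kernel
theorem rowsC : ((List.range 32).all fun i => rowOK (i + 65)) = true := by decide +kernel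
theorem rowsD : ((List.range 32).all fun i => rowOK (i + 97)) = true := by decide +kernel

end CfsgLib.SuzRec
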