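import Cfsg.Agent.Lib.SuzRec.Defs

/-!
The selections of orbits.
-/

set_option autoImplicit false
set_option Elab.async false
set_option maxRecDepth 30000

namespace CfsgLib.SuzRec

open CfsgLib.CosetEnum

theorem targets_ok : targetsOK = true := by decide +kernel

theorem small_bad : ([6, 16, 21, 36, 56].all sizeBad) = true := by decide +kernel

theorem big_bad : ([96, 126].all sizeBad) = true := by decide +kernel

end CfsgLib.SuzRec
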