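import Cfsg.Agent.Lib.SuzRec.Defs

/-!
The large selections of orbits.
-/

set_option autoImplicit false
set_option Elab.async false
set_option maxRecDepth 30000

namespace CfsgLib.SuzRec

open CfsgLib.CosetEnum

theorem bad216 : sizeBad 216 = true := by decide +kernel

theorem bad336 : sizeBad 336 = true := by decide +kernel

end CfsgLib.SuzRec
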