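import Cfsg.Agent.Lib.SuzRec.Data
import Cfsg.Agent.Lib.SuzPres.SuborbitA

/-!
The Boolean checks of the data for the rank three action on 1782 points.
-/

set_option autoImplicit false

namespace CfsgLib.SuzRec

open CfsgLib.CosetEnum CfsgLib.SuzPres

/-- all points -/
def fullM : ℕ := 2 ^ 1782 - 1

/-- all rows -/
def rows : List ℕ := rowData0 ++ rowData1 ++ rowData2 ++ rowData3 ++ rowData4

/-- a point in a row goes to a point in the next row -/
noncomputable def rowStep (r r' g : ℕ) (y : ℕ) : Bool :=
  strict y fun y => pick (ltB y 1782) (Nat.testBit r' (certA.T y g) == Nat.testBit r y) true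

/-- row number `i` comes from an earlier one by a letter -/
noncomputable def rowOK (i : ℕ) : Bool :=
  let p := (rowPar.getD i (0, 0)).1
  let g := (rowPar.getD i (0, 0)).2
  Nat.blt p i && Nat.blt g 7 && Nat.beq (certA.T (rowPts.getD p 0) g) (rowPts.getD i 0) &&
    strict (rows.getD p 0) fun r => strict (rows.getD i 0) fun r' => allUp (rowStep r r' g) 11 0

/-- words over the first letters fixing a point -/
noncomputable def fixOK (ws : List (List ℕ)) (x : ℕ) : Bool :=
  ws.all fun w => (w.all fun g => Nat.blt g 6) && Nat.beq (certA.run x (certA.revInv w)) x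

/-- the orbits of words inside a set -/
noncomputable def orbsOK (ws : List (List ℕ)) (dom : ℕ) (reps masks sizes : List ℕ)
    (trees : List (List (ℕ × ℕ))) : Bool :=
  (ws.all fun w => w.all fun g => Nat.blt g 6) &&
    Nat.beq masks.length reps.length && Nat.beq sizes.length reps.length &&
    ((List.range reps.length).all fun i =>
      Nat.blt (reps.getD i 0) 1782 &&
        (reach certA ws (trees.getD i []) (2 ^ reps.getD i 0) == some (masks.getD i 0)) &&
        Nat.beq (popc (masks.getD i 0) 1782) (sizes.getD i 0)) &&
    Nat.beq (masks.foldr Nat.lor 0) dom && Nat.beq sizes.sum (popc dom 1782)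

/-- the points with the same adjacencies to `prev` as `t` -/
def cellMask : List (ℕ × ℕ) → ℕ → ℕ
  | [], _ => fullM
  | (b, r) :: l, t => cellMask l t &&& ((if r.testBit t then r else fullM ^^^ r) &&& (fullM ^^^ 2 ^ b))

/-- the base with its rows -/
def baseL : List (ℕ × ℕ) := (List.range basePts.length).map fun i =>
  (basePts.getD i 0, rows.getD (basePos.getD i 0) 0)

/-- the base is consistent with the rows -/
def baseOK : Bool :=
  Nat.beq basePts.length 25 && Nat.beq basePos.length 25 && Nat.beq (basePts.getD 0 1) 0 &&
    (List.range basePos.length).all fun i =>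
      Nat.blt (basePos.getD i 0) rows.length &&
        Nat.beq (rowPts.getD (basePos.getD i 0) 0) (basePts.getD i 1) && Nat.blt (basePts.getD i 0) 1782

/-- sizes of the sets of choices for the first eight base points -/
def choices : List ℕ := (List.range 7).map fun i =>
  popc (cellMask (baseL.take (i + 1)) (basePts.getD (i + 1) 0)) 1782

/-- the remaining base points are determined by the earlier ones -/
def derivedOK : Bool :=
  (List.range 17).all fun i =>
    Nat.beq (cellMask (baseL.take (i + 8)) (basePts.getD (i + 8) 0)) (2 ^ basePts.getD (i + 8) 0)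

/-- every point is determined by the base -/
noncomputable def pointOK (v : ℕ) : Bool :=
  strict v fun v => pick (ltB v 1782) (basePts.any (Nat.beq v) || Nat.beq (cellMask baseL v) (2 ^ v)) true

/-- two words agree on the first eight base points -/
noncomputable def sameB (w w' : List ℕ) : Bool :=
  (w.all fun g => Nat.blt g 6) && (w'.all fun g => Nat.blt g 6) &&
    (basePts.take 8).all fun x =>
      Nat.beq (certA.run x (certA.revInv w)) (certA.run x (certA.revInv w'))

/-- the concatenation of chosen words -/
def catW (ws : List (List ℕ)) (e : List ℕ) : List ℕ := e.flatMap fun i => ws.getD i []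

/-- squares and conjugates in the series -/
noncomputable def qOK : Bool :=
  Nat.beq qWit.length qW.length && (List.range qW.length).all fun k =>
    sameB (qW.getD k [] ++ qW.getD k []) (catW qW ((qWit.getD k []).getD 0 [])) &&
      (((qWit.getD k []).getD 0 []).all fun i => Nat.blt i k) &&
      (List.range k).all fun j =>
        sameB (qW.getD k [] ++ qW.getD j [] ++ (qW.getD k []).reverse)
            (catW qW ((qWit.getD k []).getD (j + 1) [])) &&
          ((qWit.getD k []).getD (j + 1) []).all fun i => Nat.blt i k

/-- two commuting elements of order five fixing the point 47 -/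
noncomputable def fiveOK : Bool :=
  sameB (List.replicate 5 (pW.getD 0 [])).flatten [] && sameB (List.replicate 5 (pW.getD 1 [])).flatten [] &&
    sameB (pW.getD 1 [] ++ pW.getD 0 []) (pW.getD 0 [] ++ pW.getD 1 []) &&
    Nat.beq pW.length 2 && fixOK pW 47

/-- an entry of the table of degrees -/
def degAt (i j : ℕ) : ℕ := (pDeg.getD i 0 >>> (8 * j)) % 256

/-- the table of degrees -/
def degOK : Bool :=
  Nat.beq pPos.length 20 && Nat.beq pRep.length 20 && (List.range 20).all fun i =>
    Nat.blt (pPos.getD i 0) rows.length && Nat.beq (rowPts.getD (pPos.getD i 0) 0) (pRep.getD i 1) &&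
      (List.range 20).all fun j =>
        Nat.beq (popc (rows.getD (pPos.getD i 0) 0 &&& pMask.getD j 0) 1782) (degAt i j)

/-- a selection of orbits cannot be an orbit of a subgroup of index 416 -/
def leafBad (sel : List ℕ) (s : ℕ) : Bool :=
  let a := (sel.map (degAt 0)).sum
  !(sel.all fun i => (sel.map (degAt i)).sum == a) || !((s * (s - 1 - a)) % 315 == 0)

/-- every selection of total size `rem` from the orbits still to come is bad -/
def dfsBad : List ℕ → List ℕ → ℕ → ℕ → Bool
  | [], sel, s, rem => !(rem == 0) || leafBad sel s
  | i :: is, sel, s, rem =>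
    if rem == 0 then leafBad sel s
    else if ((i :: is).map fun j => pSize.getD j 0).sum < rem then true
    else dfsBad is sel s rem &&
      (if pSize.getD i 0 ≤ rem then dfsBad is (i :: sel) s (rem - pSize.getD i 0) else true)

/-- the possible sizes besides one -/
def sTargets : List ℕ := [6, 16, 21, 36, 56, 96, 126, 216, 336]

/-- the possible orbit sizes -/
def targetsOK : Bool :=
  (List.range 417).all fun s => !(24192 % s == 0 && s % 5 == 1) || s == 1 || sTargets.contains s

/-- all selections of one size are bad -/
def sizeBad (s : ℕ) : Bool := dfsBad ((List.range 19).map (· + 1)) [0] s (s - 1)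

/-- the images of the five-set are distinct and in the stabilizer of the point 1 -/
noncomputable def blkOK : Bool :=
  fixOK movW 1 && Nat.beq movW.length 5 &&
    ((List.range 5).all fun i => (List.range 5).all fun j => Nat.beq i j ||
      !(blk.all fun x => blk.any fun y =>
        Nat.beq (certA.run x (certA.revInv (movW.getD i []))) (certA.run y (certA.revInv (movW.getD j []))))) &&
    (eW.all fun w => (w.all fun g => Nat.blt g 6) &&
      blk.all fun x => blk.any fun y => Nat.beq (certA.run x (certA.revInv w)) y)

end CfsgLib.SuzRec
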