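import Cfsg.Agent.Lib.SuzRec.CheckRows
import Cfsg.Agent.Lib.SuzRec.CheckBase
import Cfsg.Agent.Lib.SuzRec.CheckSel
import Cfsg.Agent.Lib.SuzRec.CheckSelBig
import Cfsg.Agent.Lib.SuzRec.CheckOrbits
import Cfsg.Agent.Lib.SuzPres.Main
import Cfsg.Agent.Lib.SuzSub.Main

/-!
The action of `Suz` on 1782 points with the orbital graph of valency 416.
-/

set_option autoImplicit false
set_option maxRecDepth 20000

namespace CfsgLib.SuzRec

open Cfsg CfsgLib.CosetEnum CfsgLib.SuzPres MulAction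
open scoped Pointwise

attribute [local irreducible] subMask0 subMask1

/-- the points -/
abbrev Pt : Type := Fin certA.N

theorem N_eq : certA.N = 1782 := rfl

theorem K_eq : certA.K = 7 := rfl

theorem pt_lt (x : Pt) : (x : ℕ) < 1782 := lt_of_lt_of_eq x.2 N_eq

theorem allUp_pt {f : ℕ → Bool} (h : allUp f 11 0 = true) (x : Pt) : f x = true :=
  allUp_spec h x (Nat.zero_le _) (by have := pt_lt x; omega)

/-- the action on the points -/
noncomputable instance instPt : MulAction Cfsg.Spor.Suz Pt := MulAction.compHom Pt rho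

theorem smul_def (g : Cfsg.Spor.Suz) (x : Pt) : g • x = rho g x := rfl

/-- the stabilizer of the base point -/
abbrev MM : Type := ↥subA

/-- the base point -/
def p00 : Pt := ⟨0, by rw [N_eq]; norm_num⟩

/-- the point 47 -/
def d0 : Pt := ⟨47, by rw [N_eq]; norm_num⟩

/-- the point 1 -/
def p1 : Pt := ⟨1, by rw [N_eq]; norm_num⟩

theorem mem_subA (g : Cfsg.Spor.Suz) : g ∈ subA ↔ g • p00 = p00 := setupA.mem_iff g

theorem mm_fix (g : MM) : g • p00 = p00 := (mem_subA g.1).1 g.2

/-- the element of a word -/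
noncomputable def wd (w : List ℕ) : Cfsg.Spor.Suz := prodW gen w

theorem wd_smul {w : List ℕ} (hw : ∀ g ∈ w, g < 7) (x : Pt) :
    ((wd w • x : Pt) : ℕ) = certA.run x (certA.revInv w) :=
  setupA.rho_prodW (w := w) (by rw [K_eq]; exact hw) x

theorem wd_mem {w : List ℕ} (hw : ∀ g ∈ w, g < 6) : wd w ∈ subA := by
  rw [subA_eq, wd, prodW]
  refine Subgroup.list_prod_mem _ fun x hx => ?_
  obtain ⟨g, hg, rfl⟩ := List.mem_map.1 hx
  exact Subgroup.subset_closure ⟨g, hw g hg, rfl⟩

theorem wd_nil : wd [] = 1 := prodW_nil gen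

theorem wd_append (v w : List ℕ) : wd (v ++ w) = wd v * wd w := prodW_append gen v w

theorem wd_reverse (w : List ℕ) : wd w.reverse = (wd w)⁻¹ := by
  induction w with
  | nil => rw [List.reverse_nil, wd_nil, inv_one]
  | cons g w ih =>
    have h : wd (g :: w) = gen g * wd w := prodW_cons gen g w
    rw [List.reverse_cons, wd_append, ih, h, mul_inv_rev]
    congr 1
    rw [show wd [g] = gen g from (prodW_cons gen g []).trans (by rw [prodW_nil, mul_one]),
      eq_comm, inv_eq_iff_mul_eq_one]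
    exact gen_sq g

theorem lt_seven {w : List ℕ} (h : (w.all fun g => Nat.blt g 6) = true) :
    (∀ g ∈ w, g < 6) ∧ ∀ g ∈ w, g < 7 := by
  simp only [List.all_eq_true, Nat.blt_eq] at h
  exact ⟨h, fun g hg => (h g hg).trans (by norm_num)⟩

theorem wd_mem' {w : List ℕ} (h : (w.all fun g => Nat.blt g 6) = true) : wd w ∈ subA :=
  wd_mem (lt_seven h).1

theorem fix_spec {ws : List (List ℕ)} {x : Pt} (h : fixOK ws x = true) {w : List ℕ} (hw : w ∈ ws) :
    wd w ∈ subA ∧ wd w • x = x := by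
  simp only [fixOK, List.all_eq_true, Bool.and_eq_true, Nat.blt_eq] at h
  obtain ⟨h1, h2⟩ := h w hw
  exact ⟨wd_mem h1, Fin.ext ((wd_smul (fun g hg => (h1 g hg).trans (by norm_num)) x).trans
    (Nat.eq_of_beq_eq_true h2))⟩

/-! ### The two suborbits -/

/-- the points of a mask -/
def mset (m : ℕ) : Finset Pt := Finset.univ.filter fun x => m.testBit x = true

theorem mem_mset {m : ℕ} {x : Pt} : x ∈ mset m ↔ m.testBit x = true := by simp [mset]

theorem card_mset (m : ℕ) : (mset m).card = popc m 1782 := by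
  rw [popc_eq, ← Finset.card_map Fin.valEmbedding]
  congr 1
  ext y
  simp only [Finset.mem_map, mem_mset, Fin.valEmbedding_apply, Finset.mem_filter, Finset.mem_range]
  exact ⟨fun ⟨z, hz, e⟩ => e ▸ ⟨pt_lt z, hz⟩, fun ⟨h1, h2⟩ => ⟨⟨y, lt_of_lt_of_eq h1 N_eq.symm⟩, h2, rfl⟩⟩

theorem mset_and (m m' : ℕ) : mset (m &&& m') = mset m ∩ mset m' := by
  ext x; simp [mem_mset, Nat.testBit_and]

theorem mset_two_pow {k : ℕ} (x : Pt) (hx : (x : ℕ) = k) : mset (2 ^ k) = {x} := by
  ext y
  rw [mem_mset, Nat.testBit_two_pow, decide_eq_true_eq, Finset.mem_singleton, Fin.ext_iff, hx]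
  exact eq_comm

/-- the suborbit of length 416 -/
def DS : Finset Pt := mset subMask0

/-- the suborbit of length 1365 -/
def SS : Finset Pt := mset subMask1

theorem mem_DS {x : Pt} : x ∈ DS ↔ ∃ g : MM, g • d0 = x := by
  rw [DS, mem_mset, ← setupA.orbit_mem_iff subMask0_orbit]
  exact ⟨fun ⟨h, hh, e⟩ => ⟨⟨h, hh⟩, e⟩, fun ⟨g, e⟩ => ⟨g.1, g.2, e⟩⟩

theorem subMask1_ok : ∃ r, Suborbit certA r subMask1 := ⟨_, subMask1_orbit⟩

theorem card_DS : DS.card = 416 := (card_mset _).trans subMask0_size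

theorem card_SS : SS.card = 1365 := (card_mset _).trans subMask1_size

theorem d0_mem : d0 ∈ DS := mem_DS.2 ⟨1, one_smul _ _⟩

theorem p1_mem : p1 ∈ SS := by
  rw [SS, mem_mset]; show subMask1.testBit 1 = true
  exact subMask1_orbit.mem.2

theorem mem_SS {x : Pt} : x ∈ SS ↔ ∃ g : MM, g • p1 = x := by
  rw [SS, mem_mset, ← setupA.orbit_mem_iff subMask1_orbit]
  exact ⟨fun ⟨h, hh, e⟩ => ⟨⟨h, hh⟩, e⟩, fun ⟨g, e⟩ => ⟨g.1, g.2, e⟩⟩

theorem smul_DS {g : MM} {x : Pt} : g • x ∈ DS ↔ x ∈ DS := by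
  rw [mem_DS, mem_DS]
  exact ⟨fun ⟨h, e⟩ => ⟨g⁻¹ * h, by rw [mul_smul, e, inv_smul_smul]⟩,
    fun ⟨h, e⟩ => ⟨g * h, by rw [mul_smul, e]⟩⟩

theorem smul_SS {g : MM} {x : Pt} : g • x ∈ SS ↔ x ∈ SS := by
  rw [mem_SS, mem_SS]
  exact ⟨fun ⟨h, e⟩ => ⟨g⁻¹ * h, by rw [mul_smul, e, inv_smul_smul]⟩,
    fun ⟨h, e⟩ => ⟨g * h, by rw [mul_smul, e]⟩⟩

theorem pt_cases (x : Pt) : x = p00 ∨ x ∈ DS ∨ x ∈ SS := by
  by_contra h
  push Not at h
  obtain ⟨h0, h1, h2⟩ := h
  have hd : Disjoint DS SS := by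
    rw [Finset.disjoint_left]
    intro y hy hy'
    obtain ⟨g, rfl⟩ := mem_DS.1 hy
    rw [smul_SS, SS, mem_mset] at hy'
    have h47 : subMask1.testBit 47 = false := by decide +kernel
    rw [show ((d0 : Pt) : ℕ) = 47 from rfl, h47] at hy'
    exact Bool.false_ne_true hy'
  have hp0 : p00 ∉ DS ∪ SS := by
    simp only [Finset.mem_union, not_or, DS, SS, mem_mset]
    exact ⟨by show ¬ subMask0.testBit 0 = true; decide +kernel,
      by show ¬ subMask1.testBit 0 = true; decide +kernel⟩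
  have hsub : insert x (insert p00 (DS ∪ SS)) ⊆ (Finset.univ : Finset Pt) := Finset.subset_univ _
  have := Finset.card_le_card hsub
  rw [Finset.card_insert_of_notMem (by simp [h0, h1, h2]), Finset.card_insert_of_notMem hp0,
    Finset.card_union_of_disjoint hd, card_DS, card_SS, Finset.card_univ, Fintype.card_fin, N_eq] at this
  omega

theorem natCard_MM : Nat.card MM = 251596800 := CfsgLib.SuzSub.card_subA

theorem card_stab {S : Finset Pt} {x : Pt} (h : ∀ y, y ∈ S ↔ ∃ g : MM, g • x = y) :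
    Nat.card (stabilizer MM x) * S.card = 251596800 := by
  have ho : (orbit MM x).ncard = S.card := by
    rw [← Set.ncard_coe_finset]
    congr 1
    ext y
    exact (h y).symm
  rw [← natCard_MM, ← ho, ← index_stabilizer]
  exact Subgroup.card_mul_index _

theorem card_stab_d0 : Nat.card (stabilizer MM d0) = 604800 := by
  have := card_stab (S := DS) (x := d0) fun y => mem_DS
  rw [card_DS] at this
  omega

theorem card_stab_p1 : Nat.card (stabilizer MM p1) = 184320 := by
  have := card_stab (S := SS) (x := p1) fun y => mem_SS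
  rw [card_SS] at this
  omega

/-! ### The graph -/

/-- adjacency -/
def R0 (x y : Pt) : Prop := ∃ g : Cfsg.Spor.Suz, g • p00 = x ∧ g • d0 = y

noncomputable instance instDecR0 : DecidableRel R0 := fun _ _ => Classical.dec _

theorem R0_smul (g : Cfsg.Spor.Suz) {x y : Pt} : R0 (g • x) (g • y) ↔ R0 x y := by
  constructor
  · rintro ⟨h, h1, h2⟩
    exact ⟨g⁻¹ * h, by rw [mul_smul, h1, inv_smul_smul], by rw [mul_smul, h2, inv_smul_smul]⟩
  · rintro ⟨h, h1, h2⟩
    exact ⟨g * h, by rw [mul_smul, h1], by rw [mul_smul, h2]⟩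

theorem R0_base (y : Pt) : R0 p00 y ↔ y ∈ DS := by
  rw [mem_DS]
  exact ⟨fun ⟨g, h1, h2⟩ => ⟨⟨g, (mem_subA g).2 h1⟩, h2⟩, fun ⟨g, e⟩ => ⟨g.1, mm_fix g, e⟩⟩

theorem gen_perm {g : ℕ} (hg : g < 7) (y : Pt) : ((wd [g] • y : Pt) : ℕ) = certA.T y g := by
  have h : ∀ k < 7, certA.revInv [k] = [k] := by decide +kernel
  rw [wd_smul (by simpa using hg), h g hg, certA.run_cons, certA.run_nil]

theorem rows_all {i : ℕ} (h1 : 1 ≤ i) (h2 : i < 129) : rowOK i = true := by
  rcases (show i ≤ 32 ∨ (33 ≤ i ∧ i ≤ 64) ∨ (65 ≤ i ∧ i ≤ 96) ∨ 97 ≤ i by omega) with h | h | h | h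
  · have := List.all_eq_true.1 rowsA (i - 1) (List.mem_range.2 (by omega))
    rwa [Nat.sub_add_cancel h1] at this
  · have := List.all_eq_true.1 rowsB (i - 33) (List.mem_range.2 (by omega))
    rwa [Nat.sub_add_cancel h.1] at this
  · have := List.all_eq_true.1 rowsC (i - 65) (List.mem_range.2 (by omega))
    rwa [Nat.sub_add_cancel h.1] at this
  · have := List.all_eq_true.1 rowsD (i - 97) (List.mem_range.2 (by omega))
    rwa [Nat.sub_add_cancel h] at this

theorem row_spec : ∀ i < rows.length, ∀ x : Pt, (x : ℕ) = rowPts.getD i 0 →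
    ∀ y : Pt, (rows.getD i 0).testBit y = true ↔ R0 x y := by
  intro i
  induction i using Nat.strong_induction_on with
  | _ i ih =>
    intro hi x hx y
    rw [rows_head.1] at hi
    rcases Nat.eq_zero_or_pos i with rfl | hpos
    · rw [rows_head.2.2.2]
      have h0 : rowPts.getD 0 0 = 0 := by decide +kernel
      obtain rfl : x = p00 := Fin.ext (hx.trans h0)
      rw [R0_base, DS, mem_mset]
    · have h := rows_all hpos hi
      simp only [rowOK, Bool.and_eq_true, Nat.blt_eq, strict_eq] at h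
      obtain ⟨⟨⟨hp, hg⟩, hT⟩, hall⟩ := h
      set p := (rowPar.getD i (0, 0)).1
      set g := (rowPar.getD i (0, 0)).2
      have hpl : p < rows.length := by rw [rows_head.1]; omega
      set π := wd [g]
      set y' := π⁻¹ • y
      set x' := π⁻¹ • x
      have hy : π • y' = y := smul_inv_smul _ _
      have hstep := allUp_pt hall y'
      simp only [rowStep, strict_eq, show ltB (y' : ℕ) 1782 = true from ltB_iff.mpr (pt_lt y'),
        pick_true, beq_iff_eq, ← gen_perm hg] at hstep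
      rw [show wd [g] • y' = y from hy] at hstep
      have hP : rowPts.getD p 0 < certA.N := by
        have : (rowPts.all fun z => Nat.blt z 1782) = true := by decide +kernel
        simp only [List.all_eq_true, Nat.blt_eq] at this
        rw [N_eq]
        exact this _ (by
          rw [List.getD_eq_getElem _ _ (by rw [rows_head.2.1]; omega)]; exact List.getElem_mem _)
      have hxp : (x' : ℕ) = rowPts.getD p 0 := by
        have e : π • (⟨rowPts.getD p 0, hP⟩ : Pt) = x :=
          Fin.ext ((gen_perm hg _).trans ((Nat.eq_of_beq_eq_true hT).trans hx.symm))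
        show ((π⁻¹ • x : Pt) : ℕ) = _
        rw [← e, inv_smul_smul]
      rw [hstep, ih p hp hpl x' hxp y', ← R0_smul π, hy, smul_inv_smul]

theorem row_base {i : ℕ} (hi : i < 25) (b : Pt) (hb : (b : ℕ) = basePts.getD i 0) (y : Pt) :
    (rows.getD (basePos.getD i 0) 0).testBit y = true ↔ R0 b y := by
  have h := base_ok.1
  simp only [baseOK, Bool.and_eq_true, List.all_eq_true, List.mem_range, Nat.blt_eq] at h
  obtain ⟨⟨⟨hl, hl'⟩, -⟩, hall⟩ := h
  obtain ⟨⟨h1, h2⟩, -⟩ := hall i (by rw [Nat.eq_of_beq_eq_true hl']; exact hi)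
  refine row_spec _ h1 b ?_ y
  rw [hb, List.getD_eq_getElem _ _ (show i < basePts.length by rw [Nat.eq_of_beq_eq_true hl]; exact hi),
    List.getD_eq_getElem _ _ (show basePos.getD i 0 < rowPts.length by rw [rows_head.2.1, ← rows_head.1]; exact h1)]
  have := Nat.eq_of_beq_eq_true h2
  rw [List.getD_eq_getElem _ _ (show basePos.getD i 0 < rowPts.length by rw [rows_head.2.1, ← rows_head.1]; exact h1),
    List.getD_eq_getElem _ _ (show i < basePts.length by rw [Nat.eq_of_beq_eq_true hl]; exact hi)] at this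
  exact this.symm

theorem nbr_d0 : DS.filter (fun y => R0 d0 y) = mset (jDMask.getD 1 0) := by
  classical
  have h := nbrs
  ext y
  rw [Finset.mem_filter, ← h.2.2.2.2.2.1, mset_and, Finset.mem_inter, ← row_spec _ h.2.2.1 d0 h.2.1.symm y,
    and_comm]
  simp [DS, mem_mset]

theorem nbr_p1 : DS.filter (fun y => R0 p1 y) = mset (lDMask.getD 0 0) ∧
    SS.filter (fun y => R0 p1 y) = mset (lSMask.getD 2 0) := by
  classical
  have h := nbrs
  have h1 : 1 < rows.length := by rw [rows_head.1]; norm_num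
  constructor <;> ext y
  · rw [Finset.mem_filter, ← h.2.2.2.2.2.2.1, mset_and, Finset.mem_inter, ← row_spec _ h1 p1 h.1.symm y,
      and_comm]
    simp [DS, mem_mset]
  · rw [Finset.mem_filter, ← h.2.2.2.2.2.2.2.1, mset_and, Finset.mem_inter, ← row_spec _ h1 p1 h.1.symm y,
      and_comm]
    simp [SS, mem_mset]

/-! ### Invariant sets -/

theorem reach_orbit {ws : List (List ℕ)} (hws : ∀ w ∈ ws, ∀ g ∈ w, g < 7) {es : List (ℕ × ℕ)} {m : ℕ}
    {r : Pt} (h : reach certA ws es (2 ^ (r : ℕ)) = some m) {x : Pt} (hx : m.testBit x = true) :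
    ∃ g ∈ Subgroup.closure {z | ∃ w ∈ ws, wd w = z}, g • r = x := by
  obtain ⟨hy, g, hg, e⟩ := reach_spec (C := certA) (ws := ws)
    (P := fun y => ∃ hy : y < certA.N, ∃ g ∈ Subgroup.closure {z | ∃ w ∈ ws, wd w = z},
      g • r = (⟨y, hy⟩ : Pt)) (by
      rintro y i hi ⟨hy, g, hg, e⟩
      have hw : ws.getD i [] ∈ ws := by rw [List.getD_eq_getElem _ _ hi]; exact List.getElem_mem hi
      have ha := wd_smul (hws _ hw) ⟨y, hy⟩
      refine ⟨ha ▸ Fin.isLt _, wd (ws.getD i []) * g,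
        mul_mem (Subgroup.subset_closure ⟨_, hw, rfl⟩) hg, ?_⟩
      rw [mul_smul, e]
      exact Fin.ext ha)
    es _ m h (by
      intro y hy
      rw [Nat.testBit_two_pow, decide_eq_true_eq] at hy
      subst hy
      exact ⟨r.2, 1, one_mem _, one_smul _ _⟩) x hx
  exact ⟨g, hg, e⟩

theorem reach_start {C : Cert} (ws : List (List ℕ)) : ∀ (es : List (ℕ × ℕ)) (m m' : ℕ),
    reach C ws es m = some m' → ∀ y, m.testBit y = true → m'.testBit y = true
  | [], m, m', h, y, hy => by simp only [reach, Option.some.injEq] at h; exact h ▸ hy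
  | (x, i) :: es, m, m', h, y, hy => by
    unfold reach at h
    cases hc : (Nat.testBit m x && Nat.blt i ws.length)
    · simp [hc] at h
    · simp only [hc, cond_true] at h
      exact reach_start ws es _ m' h y (by rw [Nat.testBit_or, hy, Bool.true_or])

theorem testBit_foldr (l : List ℕ) (x : ℕ) :
    (l.foldr Nat.lor 0).testBit x = true ↔ ∃ m ∈ l, m.testBit x = true := by
  induction l with
  | nil => simp
  | cons a l ih =>
    rw [List.foldr_cons, show Nat.lor a (l.foldr Nat.lor 0) = a ||| l.foldr Nat.lor 0 from rfl,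
      Nat.testBit_or, Bool.or_eq_true, ih]
    simp

theorem disjoint_of_card {ι α : Type*} [Fintype ι] [DecidableEq α] (O : ι → Finset α) {U : Finset α}
    (hcov : ∀ x ∈ U, ∃ i, x ∈ O i) (hsum : ∑ i, (O i).card = U.card) :
    ∀ i j, i ≠ j → Disjoint (O i) (O j) := by
  classical
  intro i j hij
  rw [Finset.disjoint_left]
  intro x hxi hxj
  have hsub : U ⊆ ((O i).erase x) ∪ (Finset.univ.erase i).biUnion O := by
    intro z hz
    obtain ⟨k, hk⟩ := hcov z hz
    simp only [Finset.mem_union, Finset.mem_erase, Finset.mem_biUnion]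
    by_cases hki : k = i
    · subst hki
      by_cases hzx : z = x
      · subst hzx; exact Or.inr ⟨j, ⟨Ne.symm hij, Finset.mem_univ _⟩, hxj⟩
      · exact Or.inl ⟨hzx, hk⟩
    · exact Or.inr ⟨k, ⟨hki, Finset.mem_univ _⟩, hk⟩
  have h1 := (Finset.card_le_card hsub).trans ((Finset.card_union_le _ _).trans
    (Nat.add_le_add_left Finset.card_biUnion_le _))
  have h2 := Finset.card_erase_of_mem hxi
  have h3 := Finset.card_pos.2 ⟨x, hxi⟩
  rw [← hsum, ← Finset.add_sum_erase Finset.univ (fun k => (O k).card) (Finset.mem_univ i)] at h1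
  omega

theorem sum_getD {l : List ℕ} {n : ℕ} (h : l.length = n) : ∑ i : Fin n, l.getD i 0 = l.sum := by
  subst h
  refine (List.sum_ofFn (f := fun i : Fin l.length => l.getD i 0)).symm.trans (congrArg List.sum ?_)
  refine List.ext_getElem (by simp) fun i h1 h2 => ?_
  rw [List.getElem_ofFn, List.getD_eq_getElem _ _ h2]

/-- The reading of an orbit check. -/
theorem orbs_spec {ws : List (List ℕ)} {dom : ℕ} {reps masks sizes : List ℕ}
    {trees : List (List (ℕ × ℕ))} (h : orbsOK ws dom reps masks sizes trees = true) :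
    (∀ w ∈ ws, wd w ∈ subA) ∧ ∃ O : Fin reps.length → Finset Pt,
      (∀ i : Fin reps.length, O i = mset (masks.getD i 0)) ∧ (∀ i : Fin reps.length, (O i).card = sizes.getD i 0) ∧
      (∀ x ∈ mset dom, ∃ i, x ∈ O i) ∧ (∀ i, O i ⊆ mset dom) ∧
      (∀ i j, i ≠ j → Disjoint (O i) (O j)) ∧
      ∀ i : Fin reps.length, ∃ r : Pt, (r : ℕ) = reps.getD i 0 ∧ r ∈ O i ∧
        ∀ x ∈ O i, ∃ g ∈ Subgroup.closure {z | ∃ w ∈ ws, wd w = z}, g • r = x := by
  classical
  simp only [orbsOK, Bool.and_eq_true, List.all_eq_true, List.mem_range, Nat.blt_eq, beq_iff_eq] at h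
  obtain ⟨⟨⟨⟨⟨hw, hml⟩, hsl⟩, hall⟩, hun⟩, hsum⟩ := h
  have hml' := Nat.eq_of_beq_eq_true hml
  have hsl' := Nat.eq_of_beq_eq_true hsl
  refine ⟨fun w hw' => wd_mem (hw w hw'), fun i => mset (masks.getD i 0), fun i => rfl,
    fun i => (card_mset _).trans (Nat.eq_of_beq_eq_true (hall i i.2).2), ?_⟩
  have hun' := Nat.eq_of_beq_eq_true hun
  have hcov : ∀ x ∈ mset dom, ∃ i : Fin reps.length, x ∈ mset (masks.getD i 0) := by
    intro x hx
    rw [mem_mset, ← hun', testBit_foldr] at hx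
    obtain ⟨m, hm, hx⟩ := hx
    obtain ⟨k, hk, rfl⟩ := List.mem_iff_getElem.1 hm
    exact ⟨⟨k, hml' ▸ hk⟩, by rw [mem_mset, List.getD_eq_getElem _ _ hk]; exact hx⟩
  have hsub : ∀ i : Fin reps.length, mset (masks.getD i 0) ⊆ mset dom := fun i x hx => by
    rw [mem_mset, ← hun', testBit_foldr]
    refine ⟨_, ?_, mem_mset.1 hx⟩
    rw [List.getD_eq_getElem _ _ (hml'.symm ▸ i.2)]
    exact List.getElem_mem _
  refine ⟨hcov, hsub, ?_, fun i => ?_⟩
  · refine disjoint_of_card (fun i : Fin reps.length => mset (masks.getD i 0)) hcov ?_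
    calc ∑ i : Fin reps.length, (mset (masks.getD i 0)).card
        = ∑ i : Fin reps.length, sizes.getD i 0 :=
          Finset.sum_congr rfl fun i _ => (card_mset _).trans (Nat.eq_of_beq_eq_true (hall i i.2).2)
      _ = sizes.sum := sum_getD hsl'
      _ = (mset dom).card := (Nat.eq_of_beq_eq_true hsum).trans (card_mset dom).symm
  · obtain ⟨⟨hr, hre⟩, -⟩ := hall i i.2
    refine ⟨⟨reps.getD i 0, lt_of_lt_of_eq hr N_eq.symm⟩, rfl, ?_, fun x hx => ?_⟩
    · rw [mem_mset]
      refine (reach_start _ _ _ _ hre) _ ?_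
      rw [Nat.testBit_two_pow, decide_eq_true_eq]
    · exact reach_orbit (fun w hw' g hg => (hw w hw' g hg).trans (by norm_num)) hre (mem_mset.1 hx)

/-- An invariant set is a union of the orbits. -/
theorem union_of_inv {ws : List (List ℕ)} {n : ℕ} {O : Fin n → Finset Pt} {T : Finset Pt}
    (hO : ∀ i, ∃ r : Pt, r ∈ O i ∧ ∀ x ∈ O i, ∃ g ∈ Subgroup.closure {z | ∃ w ∈ ws, wd w = z}, g • r = x)
    (hinv : ∀ w ∈ ws, ∀ x ∈ T, wd w • x ∈ T) (i : Fin n) : O i ⊆ T ∨ Disjoint (O i) T := by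
  classical
  have hst : Subgroup.closure {z | ∃ w ∈ ws, wd w = z} ≤ stabilizer Cfsg.Spor.Suz T := by
    rw [Subgroup.closure_le]
    rintro _ ⟨w, hw, rfl⟩
    exact Finset.eq_of_subset_of_card_le (fun x hx => by
      obtain ⟨y, hy, rfl⟩ := Finset.mem_smul_finset.1 hx
      exact hinv w hw y hy) (by rw [Finset.card_smul_finset])
  obtain ⟨r, -, hr⟩ := hO i
  have key : ∀ x ∈ O i, (x ∈ T ↔ r ∈ T) := fun x hx => by
    obtain ⟨g, hg, rfl⟩ := hr x hx
    conv_lhs => rw [← mem_stabilizer_iff.1 (hst hg)]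
    exact Finset.smul_mem_smul_finset_iff g
  by_cases h : r ∈ T
  · exact Or.inl fun x hx => (key x hx).2 h
  · exact Or.inr (Finset.disjoint_left.2 fun x hx hx' => h ((key x hx).1 hx'))

/-- An invariant set inside a partitioned domain, as a selection of orbits. -/
theorem exists_sel {ws : List (List ℕ)} {dom : ℕ} {reps masks sizes : List ℕ}
    {trees : List (List (ℕ × ℕ))} (h : orbsOK ws dom reps masks sizes trees = true) {T : Finset Pt}
    (hT : T ⊆ mset dom) (hinv : ∀ w ∈ ws, ∀ x ∈ T, wd w • x ∈ T) :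
    ∃ J : Finset (Fin reps.length), T = J.biUnion (fun i => mset (masks.getD i 0)) ∧
      T.card = ∑ i ∈ J, sizes.getD i 0 ∧
      ∀ U : Finset Pt, (T ∩ U).card = ∑ i ∈ J, (mset (masks.getD i 0) ∩ U).card := by
  classical
  obtain ⟨-, O, hOm, hOc, hcov, -, hdis, hrep⟩ := orbs_spec h
  have hu := fun i => union_of_inv (O := O) (fun i => by
    obtain ⟨r, -, h2, h3⟩ := hrep i
    exact ⟨r, h2, h3⟩) hinv i
  let J : Finset (Fin reps.length) := Finset.univ.filter fun i => O i ⊆ T
  have hTJ : T = J.biUnion O := by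
    ext x
    simp only [J, Finset.mem_biUnion, Finset.mem_filter, Finset.mem_univ, true_and]
    refine ⟨fun hx => ?_, fun ⟨i, hi, hx⟩ => hi hx⟩
    obtain ⟨i, hi⟩ := hcov x (hT hx)
    exact ⟨i, (hu i).resolve_right fun hd => Finset.disjoint_left.1 hd hi hx, hi⟩
  refine ⟨J, ?_, ?_, fun U => ?_⟩
  · rw [hTJ]; exact Finset.biUnion_congr rfl fun i _ => hOm i
  · rw [hTJ, Finset.card_biUnion fun i _ j _ hij => hdis i j hij]
    exact Finset.sum_congr rfl fun i _ => hOc i
  · rw [hTJ, Finset.biUnion_inter, Finset.card_biUnion fun i _ j _ hij =>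
      (hdis i j hij).mono Finset.inter_subset_left Finset.inter_subset_left]
    exact Finset.sum_congr rfl fun i _ => by rw [hOm i]

end CfsgLib.SuzRec
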