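import Cfsg.Agent.Lib.SuzRec.Aut

/-!
Subgroups of index 416 and 1365 of the stabilizer.
-/

set_option autoImplicit false
set_option maxRecDepth 20000

namespace CfsgLib.SuzRec

open Cfsg CfsgLib.CosetEnum CfsgLib.SuzPres MulAction
open scoped Pointwise

attribute [local irreducible] subMask0 subMask1 baseL rows dfsBad

/-- the group of the words as a subgroup of the stabilizer -/
noncomputable def wsub (ws : List (List ℕ)) : Subgroup MM :=
  (Subgroup.closure {z | ∃ w ∈ ws, wd w = z}).subgroupOf subA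

theorem wsub_le {ws : List (List ℕ)} (h : ∀ w ∈ ws, wd w ∈ subA) :
    Subgroup.closure {z | ∃ w ∈ ws, wd w = z} ≤ subA :=
  (Subgroup.closure_le _).2 fun _ ⟨w, hw, e⟩ => e ▸ h w hw

theorem closure_fix {ws : List (List ℕ)} {x : Pt} (h : fixOK ws x = true) :
    Subgroup.closure {z | ∃ w ∈ ws, wd w = z} ≤ stabilizer Cfsg.Spor.Suz x :=
  (Subgroup.closure_le _).2 fun _ ⟨_, hw, e⟩ => e ▸ (fix_spec h hw).2

theorem exists_conj_mem {G : Type*} [Group G] [Finite G] {p : ℕ} [Fact p.Prime] {P L : Subgroup G}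
    (hP : IsPGroup p P) (hL : (Nat.card ↥L).factorization p = (Nat.card G).factorization p) :
    ∃ g : G, ∀ x ∈ P, g * x * g⁻¹ ∈ L := by
  obtain ⟨Q⟩ : Nonempty (Sylow p ↥L) := inferInstance
  obtain ⟨P0, hP0⟩ := hP.exists_le_sylow
  have hQ : Nat.card ↥((Q : Subgroup ↥L).map L.subtype) = p ^ (Nat.card G).factorization p := by
    rw [← Nat.card_congr ((Q : Subgroup ↥L).equivMapOfInjective _ L.subtype_injective).toEquiv,
      Q.card_eq_multiplicity, hL]
  obtain ⟨g, hg⟩ := exists_smul_eq G P0 (Sylow.ofCard _ hQ)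
  refine ⟨g, fun x hx => ?_⟩
  have hm : g * x * g⁻¹ ∈ (g • P0 : Sylow p G).toSubgroup := by
    rw [Sylow.coe_subgroup_smul, Subgroup.mem_pointwise_smul_iff_inv_smul_mem]
    have e : (MulAut.conj g)⁻¹ • (g * x * g⁻¹) = x := by simp [MulAut.smul_def]; group
    rw [e]; exact hP0 hx
  rw [hg] at hm
  obtain ⟨q, -, hq⟩ := hm
  rw [← hq]; exact q.2

theorem fac_eq {p k n m : ℕ} (hp : p.Prime) (hn : n ≠ 0) (hm : m ≠ 0) (h1 : p ^ k ∣ n)
    (h2 : ¬ p ^ (k + 1) ∣ n) (h3 : p ^ k ∣ m) (h4 : ¬ p ^ (k + 1) ∣ m) :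
    n.factorization p = m.factorization p := by
  rw [hp.pow_dvd_iff_le_factorization hn] at h1 h2
  rw [hp.pow_dvd_iff_le_factorization hm] at h3 h4
  omega

/-- the orbit of a point under a subgroup -/
noncomputable def orbF (L : Subgroup MM) (x : Pt) : Finset Pt := (Set.toFinite (orbit ↥L x)).toFinset

theorem mem_orbF {L : Subgroup MM} {x y : Pt} : y ∈ orbF L x ↔ ∃ l ∈ L, l • x = y := by
  rw [orbF, Set.Finite.mem_toFinset]
  exact ⟨fun ⟨l, e⟩ => ⟨l.1, l.2, e⟩, fun ⟨l, hl, e⟩ => ⟨⟨l, hl⟩, e⟩⟩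

theorem orbF_inv (L : Subgroup MM) (x : Pt) : ∀ l ∈ L, ∀ y ∈ orbF L x, l • y ∈ orbF L x := by
  intro l hl y hy
  obtain ⟨k, hk, rfl⟩ := mem_orbF.1 hy
  exact mem_orbF.2 ⟨l * k, mul_mem hl hk, mul_smul _ _ _⟩

theorem card_orbF (L : Subgroup MM) (x : Pt) :
    Nat.card ↥(stabilizer ↥L x) * (orbF L x).card = Nat.card ↥L := by
  have h := (stabilizer ↥L x).card_mul_index
  rwa [index_stabilizer, Set.ncard_eq_toFinset_card _ (Set.toFinite _)] at h

theorem stab_eq {L : Subgroup MM} {x : Pt} {n : ℕ} (hL : Nat.card ↥L = n)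
    (hx : Nat.card ↥(stabilizer MM x) = n) (h1 : ∀ l ∈ L, l • x = x) : L = stabilizer MM x :=
  Subgroup.eq_of_le_of_card_ge (fun l hl => h1 l hl) (by rw [hL, hx])

theorem conj_stab {L : Subgroup MM} {g : MM} {x : Pt} (hL : L.map (MulAut.conj g⁻¹).toMonoidHom = stabilizer MM x) :
    L = stabilizer MM (g • x) := by
  ext l
  have : l ∈ L ↔ g⁻¹ * l * g ∈ stabilizer MM x := by
    rw [← hL, Subgroup.mem_map]
    constructor
    · intro h; exact ⟨l, h, by simp [MulAut.conj_apply]⟩
    · rintro ⟨k, hk, e⟩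
      have : k = l := by simpa [MulAut.conj_apply] using e
      exact this ▸ hk
  rw [this, mem_stabilizer_iff, mem_stabilizer_iff, mul_smul, mul_smul, inv_smul_eq_iff]

theorem card_map_conj (L : Subgroup MM) (g : MM) :
    Nat.card ↥(L.map (MulAut.conj g).toMonoidHom) = Nat.card ↥L :=
  (Nat.card_congr (L.equivMapOfInjective _ (MulAut.conj g).injective).toEquiv).symm

theorem mem_map_conj {L : Subgroup MM} {g x : MM} (h : g * x * g⁻¹ ∈ L) :
    x ∈ L.map (MulAut.conj g⁻¹).toMonoidHom :=
  ⟨_, h, by simp [MulAut.conj_apply]; group⟩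

/-! ### Selections -/

theorem leafBad_perm {l l' : List ℕ} (h : l.Perm l') (s : ℕ) : leafBad l s = leafBad l' s := by
  unfold leafBad
  have e : ∀ f : ℕ → ℕ, (l.map f).sum = (l'.map f).sum := fun f => (h.map f).sum_eq
  simp only [e]
  rw [Bool.eq_iff_iff]
  simp only [Bool.or_eq_true, Bool.not_eq_true', ← Bool.not_eq_true, List.all_eq_true, h.mem_iff]

theorem dfsBad_spec {s : ℕ} : ∀ {is sel : List ℕ} {rem : ℕ}, (∀ i ∈ is, 0 < pSize.getD i 0) →
    dfsBad is sel s rem = true → ∀ J : List ℕ, J.Sublist is →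
      (J.map fun j => pSize.getD j 0).sum = rem → leafBad (J ++ sel) s = true
  | [], sel, rem, _, h, J, hJ, hsum => by
    obtain rfl := List.sublist_nil.1 hJ
    simp only [List.map_nil, List.sum_nil] at hsum
    subst hsum
    unfold dfsBad at h
    simpa using h
  | i :: is, sel, rem, hpos, h, J, hJ, hsum => by
    unfold dfsBad at h
    by_cases h0 : rem = 0
    · subst h0
      rw [if_pos (by simp)] at h
      cases J with
      | nil => simpa using h
      | cons a J =>
        have := hpos a (hJ.subset (List.mem_cons_self ..))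
        simp only [List.map_cons, List.sum_cons] at hsum
        omega
    · rw [if_neg (by simpa using h0)] at h
      by_cases hlt : ((i :: is).map fun j => pSize.getD j 0).sum < rem
      · have := (hJ.map fun j => pSize.getD j 0).sum_le_sum (fun a _ => Nat.zero_le a)
        omega
      · rw [if_neg hlt, Bool.and_eq_true] at h
        have hpos' : ∀ j ∈ is, 0 < pSize.getD j 0 := fun j hj => hpos j (List.mem_cons_of_mem _ hj)
        cases hJ with
        | cons _ hJ' => exact dfsBad_spec hpos' h.1 J hJ' hsum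
        | cons_cons _ hJ' =>
          rename_i J'
          simp only [List.map_cons, List.sum_cons] at hsum
          have h2 := h.2
          rw [if_pos (by omega)] at h2
          have := dfsBad_spec hpos' h2 J' hJ' (by omega)
          rwa [leafBad_perm (List.perm_middle) s] at this

theorem deg_spec {i j : ℕ} (hi : i < 20) (hj : j < 20) (r : Pt) (hr : (r : ℕ) = pRep.getD i 0) :
    (mset (pMask.getD j 0)).filter (fun y => R0 r y) =
      mset (rows.getD (pPos.getD i 0) 0 &&& pMask.getD j 0) ∧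
    (mset (rows.getD (pPos.getD i 0) 0 &&& pMask.getD j 0)).card = degAt i j := by
  classical
  have h := deg_ok
  simp only [degOK, Bool.and_eq_true, List.all_eq_true, List.mem_range, Nat.blt_eq] at h
  obtain ⟨⟨-, hl⟩, hall⟩ := h
  obtain ⟨⟨hp, hpt⟩, hd⟩ := hall i hi
  have hpt' : rowPts.getD (pPos.getD i 0) 0 = (r : ℕ) := by
    rw [Nat.eq_of_beq_eq_true hpt, hr,
      List.getD_eq_getElem _ _ (show i < pRep.length by rw [Nat.eq_of_beq_eq_true hl]; exact hi),
      List.getD_eq_getElem _ _ (show i < pRep.length by rw [Nat.eq_of_beq_eq_true hl]; exact hi)]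
  refine ⟨?_, (card_mset _).trans (Nat.eq_of_beq_eq_true (hd j hj))⟩
  ext y
  rw [Finset.mem_filter, mset_and, Finset.mem_inter, ← row_spec _ hp r hpt'.symm y, and_comm, mem_mset,
    mem_mset]

theorem size_facts : pRep.length = 20 ∧ (∀ i : Fin 20, i.val ≠ 0 → 0 < pSize.getD i.val 0 ∧ 5 ∣ pSize.getD i.val 0) ∧
    pSize.getD 1 0 = 25 := by decide +kernel

theorem sizeBad_all {s : ℕ} (hs : s ∈ sTargets) : sizeBad s = true := by
  simp only [sTargets, List.mem_cons, List.not_mem_nil, or_false] at hs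
  have h1 := List.all_eq_true.1 small_bad
  have h2 := List.all_eq_true.1 big_bad
  rcases hs with rfl | rfl | rfl | rfl | rfl | rfl | rfl | rfl | rfl
  · exact h1 6 (by simp)
  · exact h1 16 (by simp)
  · exact h1 21 (by simp)
  · exact h1 36 (by simp)
  · exact h1 56 (by simp)
  · exact h2 96 (by simp)
  · exact h2 126 (by simp)
  · exact bad216
  · exact bad336

/-- incidences between translates of an orbit and the two suborbits of a point -/
theorem dvd_incidence (L : Subgroup MM) (hL : Nat.card ↥L = 604800) {a : ℕ}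
    (hreg : ∀ y ∈ orbF L d0, ((orbF L d0).filter fun z => R0 y z).card = a) :
    315 ∣ (orbF L d0).card * ((orbF L d0).card - 1 - a) := by
  classical
  set S := orbF L d0
  have hS : S ⊆ DS := fun y hy => by
    obtain ⟨l, -, rfl⟩ := mem_orbF.1 hy
    exact smul_DS.2 d0_mem
  have hst : ∀ l ∈ L, l • S = S := fun l hl => Finset.eq_of_subset_of_card_le (fun x hx => by
    obtain ⟨y, hy, rfl⟩ := Finset.mem_smul_finset.1 hx
    exact orbF_inv L d0 l hl y hy) (by rw [Finset.card_smul_finset])
  haveI : Fintype (MM ⧸ L) := Fintype.ofFinite _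
  let T : MM ⧸ L → Finset Pt := Quotient.lift (fun g : MM => g • S) fun g h e => by
    have := hst _ (QuotientGroup.leftRel_apply.1 e)
    conv_lhs => rw [← this]
    rw [mul_smul, smul_inv_smul]
  have hTmk : ∀ g : MM, T (g : MM ⧸ L) = g • S := fun g => rfl
  have hTsmul : ∀ (g : MM) q, T (g • q) = g • T q := by
    intro g q
    induction q using QuotientGroup.induction_on with
    | H h =>
      show T ((g * h : MM) : MM ⧸ L) = _
      rw [hTmk, hTmk, mul_smul]
  have hidx : Fintype.card (MM ⧸ L) = 416 := by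
    have h := L.card_mul_index
    rw [hL, natCard_MM, Subgroup.index, Nat.card_eq_fintype_card] at h
    omega
  let n : Pt → ℕ := fun y => (Finset.univ.filter fun q => y ∈ T q).card
  have hn : ∀ (g : MM) y, n (g • y) = n y := fun g y => by
    refine (Finset.card_bij (fun q _ => g • q) (fun q hq => ?_) (fun q _ q' _ e => by simpa using e)
      fun q hq => ⟨g⁻¹ • q, ?_, smul_inv_smul _ _⟩).symm
    · simp only [Finset.mem_filter, Finset.mem_univ, true_and] at hq ⊢
      rw [hTsmul]; exact Finset.smul_mem_smul_finset hq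
    · simp only [Finset.mem_filter, Finset.mem_univ, true_and] at hq ⊢
      rw [hTsmul, ← Finset.smul_mem_smul_finset_iff g, smul_inv_smul]; exact hq
  have hTD : ∀ q, T q ⊆ DS := fun q => by
    induction q using QuotientGroup.induction_on with
    | H g =>
      intro y hy
      rw [hTmk] at hy
      obtain ⟨z, hz, rfl⟩ := Finset.mem_smul_finset.1 hy
      exact smul_DS.2 (hS hz)
  have hn0 : n d0 = S.card := by
    have h := Finset.sum_card_bipartiteAbove_eq_sum_card_bipartiteBelow (fun (y : Pt) (q : MM ⧸ L) => y ∈ T q)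
      (s := DS) (t := (Finset.univ : Finset (MM ⧸ L)))
    have e1 : ∀ y ∈ DS, (Finset.bipartiteAbove (fun (y : Pt) (q : MM ⧸ L) => y ∈ T q) Finset.univ y).card = n d0 := by
      intro y hy
      obtain ⟨g, rfl⟩ := mem_DS.1 hy
      exact (hn g d0)
    have e2 : ∀ q, (Finset.bipartiteBelow (fun (y : Pt) (q : MM ⧸ L) => y ∈ T q) DS q).card = S.card := by
      intro q
      have : Finset.bipartiteBelow (fun (y : Pt) (q : MM ⧸ L) => y ∈ T q) DS q = T q := by
        ext y; simp only [Finset.mem_bipartiteBelow]; exact ⟨fun h => h.2, fun h => ⟨hTD q h, h⟩⟩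
      rw [this]
      induction q using QuotientGroup.induction_on with
      | H g => rw [hTmk, Finset.card_smul_finset]
    rw [Finset.sum_congr rfl e1] at h
    simp only [e2, Finset.sum_const, Finset.card_univ, hidx, card_DS, smul_eq_mul] at h
    omega
  obtain ⟨-, O, hOm, hOc, hcov, -, hdis, hrep⟩ := orbs_spec jOrbs
  have hlen : jDRep.length = 3 := by decide +kernel
  let i0 : Fin jDRep.length := ⟨0, by omega⟩
  let i1 : Fin jDRep.length := ⟨1, by omega⟩
  let i2 : Fin jDRep.length := ⟨2, by omega⟩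
  set B := O i2 with hBdef
  have hB : B.card = 315 := by rw [hBdef, hOc, nbrs.2.2.2.2.2.2.2.2.1]; rfl
  have hO0 : O i0 = {d0} := by rw [hOm, nbrs.2.2.2.2.1, mset_two_pow d0 (show ((d0 : Pt) : ℕ) = 47 from rfl)]
  have hO1 : O i1 = DS.filter fun y => R0 d0 y := by rw [hOm, nbr_d0]
  have hnconst : ∀ x ∈ B, ∀ x' ∈ B, (Finset.univ.filter fun q => d0 ∈ T q ∧ x ∈ T q).card =
      (Finset.univ.filter fun q => d0 ∈ T q ∧ x' ∈ T q).card := by
    obtain ⟨r, -, -, hr⟩ := hrep i2
    have key : ∀ x ∈ B, (Finset.univ.filter fun q => d0 ∈ T q ∧ x ∈ T q).card =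
        (Finset.univ.filter fun q => d0 ∈ T q ∧ r ∈ T q).card := by
      intro x hx
      obtain ⟨g, hg, rfl⟩ := hr x hx
      have hgA : g ∈ subA := wsub_le (orbs_spec jOrbs).1 hg
      have hgd : (⟨g, hgA⟩ : MM) • d0 = d0 := closure_fix (x := d0) fixes.1 hg
      refine (Finset.card_bij (fun q _ => (⟨g, hgA⟩ : MM) • q) (fun q hq => ?_)
        (fun q _ q' _ e => by simpa using e) fun q hq => ⟨(⟨g, hgA⟩ : MM)⁻¹ • q, ?_, smul_inv_smul _ _⟩).symm
      · simp only [Finset.mem_filter, Finset.mem_univ, true_and] at hq ⊢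
        rw [hTsmul, ← show (⟨g, hgA⟩ : MM) • r = g • r from rfl]
        refine ⟨?_, Finset.smul_mem_smul_finset hq.2⟩
        rw [← hgd]; exact Finset.smul_mem_smul_finset hq.1
      · simp only [Finset.mem_filter, Finset.mem_univ, true_and] at hq ⊢
        rw [hTsmul, ← Finset.smul_mem_smul_finset_iff (⟨g, hgA⟩ : MM), smul_inv_smul, hgd,
          ← Finset.smul_mem_smul_finset_iff (⟨g, hgA⟩ : MM) (b := r), smul_inv_smul]
        exact hq
    intro x hx x' hx'
    rw [key x hx, key x' hx']
  obtain ⟨x0, hx0⟩ : B.Nonempty := Finset.card_pos.1 (by omega)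
  have h := Finset.sum_card_bipartiteAbove_eq_sum_card_bipartiteBelow (fun (y : Pt) (q : MM ⧸ L) => y ∈ T q)
    (s := B) (t := (Finset.univ : Finset (MM ⧸ L)).filter fun q => d0 ∈ T q)
  have e1 : ∀ y ∈ B, (Finset.bipartiteAbove (fun (y : Pt) (q : MM ⧸ L) => y ∈ T q)
      (Finset.univ.filter fun q => d0 ∈ T q) y).card =
      (Finset.univ.filter fun q => d0 ∈ T q ∧ x0 ∈ T q).card := by
    intro y hy
    rw [Finset.bipartiteAbove, Finset.filter_filter]
    exact hnconst y hy x0 hx0
  have e2 : ∀ q ∈ (Finset.univ : Finset (MM ⧸ L)).filter (fun q => d0 ∈ T q),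
      (Finset.bipartiteBelow (fun (y : Pt) (q : MM ⧸ L) => y ∈ T q) B q).card = S.card - 1 - a := by
    intro q hq
    simp only [Finset.mem_filter, Finset.mem_univ, true_and] at hq
    induction q using QuotientGroup.induction_on with
    | H g =>
      rw [hTmk] at hq
      obtain ⟨y, hy, hyd⟩ := Finset.mem_smul_finset.1 hq
      have hU : g • S ⊆ DS := hTD (g : MM ⧸ L)
      have hpart : (g • S).card = ∑ i : Fin jDRep.length, ((g • S) ∩ O i).card := by
        rw [← Finset.card_biUnion fun i _ j _ hij => (hdis i j hij).mono Finset.inter_subset_right Finset.inter_subset_right]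
        congr 1
        ext z
        simp only [Finset.mem_biUnion, Finset.mem_univ, true_and, Finset.mem_inter]
        exact ⟨fun hz => (hcov z (hU hz)).imp fun i hi => ⟨hz, hi⟩, fun ⟨i, hz, _⟩ => hz⟩
      have h0 : ((g • S) ∩ O i0).card = 1 := by
        rw [hO0, Finset.inter_singleton_of_mem hq, Finset.card_singleton]
      have h1 : ((g • S) ∩ O i1).card = a := by
        rw [← hreg y hy, hO1]
        refine (Finset.card_bij (fun z _ => g • z) (fun z hz => ?_) (fun z _ z' _ e => by simpa using e)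
          fun z hz => ?_).symm
        · simp only [Finset.mem_filter] at hz
          simp only [Finset.mem_inter, Finset.mem_filter]
          refine ⟨Finset.smul_mem_smul_finset hz.1, smul_DS.2 (hS hz.1), ?_⟩
          rw [← hyd]
          exact (R0_smul (g : Cfsg.Spor.Suz)).2 hz.2
        · simp only [Finset.mem_inter, Finset.mem_filter] at hz
          obtain ⟨z', hz', rfl⟩ := Finset.mem_smul_finset.1 hz.1
          refine ⟨z', ?_, rfl⟩
          simp only [Finset.mem_filter]
          refine ⟨hz', ?_⟩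
          have := hz.2.2
          rw [← hyd] at this
          exact (R0_smul (g : Cfsg.Spor.Suz)).1 this
      have hsum : ∑ i : Fin jDRep.length, ((g • S) ∩ O i).card =
          ((g • S) ∩ O i0).card + ((g • S) ∩ O i1).card + ((g • S) ∩ O i2).card := by
        rw [← Fintype.sum_equiv (finCongr hlen.symm) (fun i : Fin 3 => ((g • S) ∩ O (finCongr hlen.symm i)).card)
          (fun i => ((g • S) ∩ O i).card) (fun i => rfl), Fin.sum_univ_three]
        rfl
      have hBi : (Finset.bipartiteBelow (fun (y : Pt) (q : MM ⧸ L) => y ∈ T q) B (g : MM ⧸ L)) = (g • S) ∩ O i2 := by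
        ext z
        simp only [Finset.mem_bipartiteBelow, Finset.mem_inter, hTmk]
        exact and_comm
      rw [hBi]
      rw [hsum, h0, h1, Finset.card_smul_finset] at hpart
      omega
  rw [Finset.sum_congr rfl e1, Finset.sum_congr rfl e2, Finset.sum_const, Finset.sum_const, hB, smul_eq_mul,
    smul_eq_mul, show (Finset.univ.filter fun q => d0 ∈ T q).card = S.card from hn0] at h
  exact ⟨_, h.symm⟩

/-- Subgroups of index 416 fix a point of the first suborbit. -/
theorem index416 (L : Subgroup MM) (hL : Nat.card ↥L = 604800) :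
    ∃ i ∈ DS, L = stabilizer MM i := by
  classical
  haveI : Fact (Nat.Prime 5) := ⟨by norm_num⟩
  have hp := (orbs_spec pOrbs).1
  have hPpg : IsPGroup 5 (wsub pW) :=
    p_isPGroup.of_equiv (Subgroup.subgroupOfEquivOfLe (wsub_le hp)).symm
  have hfix5 : fixOK pW 47 = true := by
    have h := five_ok
    simp only [fiveOK, Bool.and_eq_true] at h
    exact h.2
  obtain ⟨g, hg⟩ := exists_conj_mem (L := L) hPpg (by
    rw [hL, natCard_MM]
    exact fac_eq (k := 2) (by norm_num) (by norm_num) (by norm_num) (by norm_num) (by norm_num) (by norm_num)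
      (by norm_num))
  set L' := L.map (MulAut.conj g⁻¹).toMonoidHom
  have hL' : Nat.card ↥L' = 604800 := (card_map_conj L g⁻¹).trans hL
  have hPL : ∀ x ∈ wsub pW, x ∈ L' := fun x hx => mem_map_conj (hg x hx)
  suffices h : ∀ l ∈ L', l • d0 = d0 from
    ⟨g • d0, smul_DS.2 d0_mem, conj_stab (stab_eq hL' card_stab_d0 h)⟩
  set S := orbF L' d0 with hSdef
  have hSD : S ⊆ DS := fun y hy => by
    obtain ⟨l, -, rfl⟩ := mem_orbF.1 hy
    exact smul_DS.2 d0_mem
  have hinv : ∀ w ∈ pW, ∀ x ∈ S, wd w • x ∈ S := fun w hw x hx =>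
    orbF_inv L' d0 ⟨wd w, hp w hw⟩ (hPL _ (Subgroup.subset_closure ⟨w, hw, rfl⟩)) x hx
  obtain ⟨-, O, hOm, hOc, -, -, hdis, hrep⟩ := orbs_spec pOrbs
  obtain ⟨J, hSJ, hScard, hSU⟩ := exists_sel pOrbs (T := S) hSD hinv
  have hlen : pRep.length = 20 := size_facts.1
  let i0 : Fin pRep.length := ⟨0, by omega⟩
  let i1 : Fin pRep.length := ⟨1, by omega⟩
  have h25 : 25 ∣ Nat.card ↥(stabilizer ↥L' d0) := by
    have h1 : Nat.card ↥(wsub pW) ∣ Nat.card ↥(stabilizer ↥L' d0) := by
      let φ : ↥(wsub pW) →* ↥(stabilizer ↥L' d0) :=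
        { toFun := fun x => ⟨⟨x.1, hPL _ x.2⟩, closure_fix (x := d0) hfix5 x.2⟩
          map_one' := rfl
          map_mul' := fun _ _ => rfl }
      exact Subgroup.card_dvd_of_injective φ fun x y e => Subtype.ext (congrArg (fun z => z.1.1) e)
    refine dvd_trans ?_ h1
    obtain ⟨k, hk⟩ := IsPGroup.iff_card.1 hPpg
    obtain ⟨r, -, -, hr⟩ := hrep i1
    have hle : (O i1).card ≤ Nat.card ↥(wsub pW) := by
      rw [← Nat.card_eq_finsetCard]
      choose f hf hf' using hr
      refine Nat.card_le_card_of_injective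
        (fun x : ↥(O i1) => (⟨⟨f x x.2, wsub_le hp (hf x x.2)⟩, hf x x.2⟩ : ↥(wsub pW))) fun x y e => Subtype.ext ?_
      have e' : f x x.2 = f y y.2 := congrArg (fun z : ↥(wsub pW) => z.1.1) e
      rw [← hf' x x.2, ← hf' y y.2, e']
    rw [hOc i1, size_facts.2.2, hk] at hle
    rw [hk]
    have h2 : 2 ≤ k := by
      by_contra hc
      have := Nat.pow_le_pow_right (show 0 < 5 by norm_num) (show k ≤ 1 by omega)
      omega
    exact dvd_trans (by norm_num) (pow_dvd_pow 5 h2)
  have hs24 : S.card ∣ 24192 := by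
    obtain ⟨c, hc⟩ := h25
    have := card_orbF L' d0
    rw [← hSdef, hc, hL'] at this
    exact ⟨c, by nlinarith⟩
  have h0J : i0 ∈ J := by
    have hd : d0 ∈ S := mem_orbF.2 ⟨1, one_mem _, one_smul _ _⟩
    rw [hSJ, Finset.mem_biUnion] at hd
    obtain ⟨i, hi, hid⟩ := hd
    have : i = i0 := by
      by_contra hne
      exact Finset.disjoint_left.1 (hdis i i0 hne) (by rw [hOm]; exact hid) (by
        rw [hOm, show pMask.getD i0.val 0 = 2 ^ 47 from nbrs.2.2.2.2.2.2.2.2.2.2.2.2.2.2.2.2.2.2.2.2.2,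
          mset_two_pow d0 (show ((d0 : Pt) : ℕ) = 47 from rfl)]
        exact Finset.mem_singleton_self _)
    exact this ▸ hi
  have hdeg : ∀ i ∈ J, ∀ r : Pt, (r : ℕ) = pRep.getD i.val 0 →
      (S.filter fun z => R0 r z).card = ∑ j ∈ J, degAt i.val j.val := by
    intro i hi r hr
    have e : (S.filter fun z => R0 r z) = S ∩ (Finset.univ.filter fun z => R0 r z) := by
      ext z; simp
    rw [e, hSU]
    refine Finset.sum_congr rfl fun j hj => ?_
    obtain ⟨e1, e2⟩ := deg_spec (show i.val < 20 by omega) (show j.val < 20 by omega) r hr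
    rw [← e2, ← e1]
    congr 1
    ext z; simp
  have hreg : ∀ y ∈ S, (S.filter fun z => R0 y z).card = (S.filter fun z => R0 d0 z).card := by
    intro y hy
    obtain ⟨l, hl, rfl⟩ := mem_orbF.1 hy
    refine (Finset.card_bij (fun z _ => l • z) (fun z hz => ?_) (fun z _ z' _ e => by simpa using e)
      fun z hz => ⟨l⁻¹ • z, ?_, smul_inv_smul _ _⟩).symm
    · simp only [Finset.mem_filter] at hz ⊢
      exact ⟨orbF_inv L' d0 l hl z hz.1, (R0_smul (l : Cfsg.Spor.Suz)).2 hz.2⟩
    · simp only [Finset.mem_filter] at hz ⊢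
      refine ⟨orbF_inv L' d0 _ (inv_mem hl) z hz.1, ?_⟩
      have := (R0_smul (l : Cfsg.Spor.Suz) (x := d0) (y := l⁻¹ • z))
      rw [show (l : Cfsg.Spor.Suz) • (l⁻¹ • z) = z from smul_inv_smul l z] at this
      exact this.1 hz.2
  set a := (S.filter fun z => R0 d0 z).card
  have hdiv := dvd_incidence L' hL' (a := a) hreg
  -- the selection
  have hJmod : S.card % 5 = 1 := by
    rw [hScard, ← Finset.add_sum_erase J _ h0J]
    have : 5 ∣ ∑ i ∈ J.erase i0, pSize.getD i.val 0 := Finset.dvd_sum fun i hi => by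
      have hne : i.val ≠ 0 := fun e => (Finset.mem_erase.1 hi).1 (Fin.ext e)
      exact (size_facts.2.1 ⟨i.val, by omega⟩ hne).2
    rw [show pSize.getD i0.val 0 = 1 from nbrs.2.2.2.2.2.2.2.2.2.2.2.2.2.2.2.2.2.2.2.2.1]
    omega
  by_cases hs1 : S.card = 1
  · intro l hl
    obtain ⟨z, hz⟩ := Finset.card_eq_one.1 hs1
    have h1 : d0 ∈ S := mem_orbF.2 ⟨1, one_mem _, one_smul _ _⟩
    have h2 : l • d0 ∈ S := mem_orbF.2 ⟨l, hl, rfl⟩
    rw [hz, Finset.mem_singleton] at h1 h2
    rw [h2, ← h1]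
  exfalso
  have hst : S.card ∈ sTargets := by
    have hle : S.card ≤ 416 := card_DS ▸ Finset.card_le_card hSD
    have h := List.all_eq_true.1 targets_ok S.card (List.mem_range.2 (by omega))
    simp only [Bool.or_eq_true, Bool.not_eq_true', Bool.and_eq_false_iff, beq_eq_false_iff_ne,
      beq_iff_eq, List.contains_iff_mem] at h
    rcases h with ((h | h) | h) | h
    · exact absurd (Nat.dvd_iff_mod_eq_zero.1 hs24) h
    · exact absurd hJmod h
    · exact absurd h hs1
    · exact h
  let Jl : List ℕ := ((List.range 19).map (· + 1)).filter fun j => decide (∃ i ∈ J, i.val = j)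
  have hperm : (Jl ++ [0]).Perm (J.toList.map Fin.val) := by
    rw [List.perm_ext_iff_of_nodup]
    · intro j
      simp only [Jl, List.mem_append, List.mem_filter, List.mem_map, List.mem_range, decide_eq_true_eq,
        List.mem_singleton, Finset.mem_toList]
      constructor
      · rintro (⟨-, h⟩ | rfl)
        · exact h
        · exact ⟨i0, h0J, rfl⟩
      · rintro ⟨i, hi, rfl⟩
        by_cases h0 : i.val = 0
        · exact Or.inr h0
        · exact Or.inl ⟨⟨i.val - 1, by omega, by omega⟩, i, hi, rfl⟩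
    · rw [List.nodup_append]
      refine ⟨(List.nodup_range.map fun x y e => by simpa using e).filter _, List.nodup_singleton 0, ?_⟩
      intro x hx y hy e
      simp only [List.mem_singleton] at hy
      simp only [Jl, List.mem_filter, List.mem_map, List.mem_range] at hx
      omega
    · exact J.nodup_toList.map Fin.val_injective
  have hsum : ∀ f : ℕ → ℕ, (((Jl ++ [0])).map f).sum = ∑ i ∈ J, f i.val := fun f => by
    rw [(hperm.map f).sum_eq, List.map_map, Finset.sum_map_toList]
    rfl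
  have hbad := dfsBad_spec (s := S.card) (fun i hi => by
      simp only [List.mem_map, List.mem_range] at hi
      obtain ⟨k, hk, rfl⟩ := hi
      exact (size_facts.2.1 ⟨k + 1, by omega⟩ (Nat.succ_ne_zero k)).1)
    (sizeBad_all hst) Jl List.filter_sublist (by
      have := hsum fun j => pSize.getD j 0
      rw [List.map_append, List.sum_append] at this
      have e0 : pSize.getD 0 0 = 1 := nbrs.2.2.2.2.2.2.2.2.2.2.2.2.2.2.2.2.2.2.2.2.1
      simp only [List.map_cons, List.map_nil, List.sum_cons, List.sum_nil, e0] at this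
      rw [← hScard] at this
      omega)
  have ha : ((Jl ++ [0]).map (degAt 0)).sum = a := by
    rw [hsum]
    exact (hdeg i0 h0J d0 (by rw [show pRep.getD i0.val 0 = 47 from nbrs.2.2.2.2.2.2.2.2.2.2.2.2.2.2.2.2.2.2.1]; rfl)).symm
  simp only [leafBad, Bool.or_eq_true, Bool.not_eq_true', ← Bool.not_eq_true, List.all_eq_true, beq_iff_eq,
    ha] at hbad
  rcases hbad with h | h
  · refine h fun j hj => ?_
    have hj' := hperm.mem_iff.1 hj
    simp only [List.mem_map, Finset.mem_toList] at hj'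
    obtain ⟨i, hi, rfl⟩ := hj'
    obtain ⟨r, hr, hrO, -⟩ := hrep i
    have hrS : r ∈ S := by
      rw [hSJ, Finset.mem_biUnion]
      exact ⟨i, hi, hOm i ▸ hrO⟩
    rw [hsum, ← hdeg i hi r hr, hreg r hrS]
  · exact h (Nat.dvd_iff_mod_eq_zero.1 hdiv)

/-- Subgroups of index 1365 fix a point of the second suborbit, or have no invariant set of 96
points in the first. -/
theorem index1365 (L : Subgroup MM) (hL : Nat.card ↥L = 184320) :
    (∃ i ∈ SS, L = stabilizer MM i) ∨
      ∀ T : Finset Pt, T ⊆ DS → (∀ l ∈ L, ∀ x ∈ T, l • x ∈ T) → T.card ≠ 96 := by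
  classical
  haveI : Fact (Nat.Prime 2) := ⟨Nat.prime_two⟩
  obtain ⟨hq, O, hOm, hOc, -, -, hdis, hrep⟩ := orbs_spec qOrbs
  have hQpg : IsPGroup 2 (wsub qW) :=
    q_isPGroup.of_equiv (Subgroup.subgroupOfEquivOfLe (wsub_le hq)).symm
  obtain ⟨g, hg⟩ := exists_conj_mem (L := L) hQpg (by
    rw [hL, natCard_MM]
    exact fac_eq (k := 12) (by norm_num) (by norm_num) (by norm_num) (by norm_num) (by norm_num) (by norm_num)
      (by norm_num))
  set L' := L.map (MulAut.conj g⁻¹).toMonoidHom
  have hL' : Nat.card ↥L' = 184320 := (card_map_conj L g⁻¹).trans hL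
  have hQL : ∀ x ∈ wsub qW, x ∈ L' := fun x hx => mem_map_conj (hg x hx)
  set S := orbF L' p1 with hSdef
  have hSS : S ⊆ SS := fun y hy => by
    obtain ⟨l, -, rfl⟩ := mem_orbF.1 hy
    exact smul_SS.2 p1_mem
  have hlen : qSRep.length = 6 := by decide +kernel
  let i0 : Fin qSRep.length := ⟨0, by omega⟩
  have hsz : qSSize = [1, 4, 16, 64, 256, 1024] := nbrs.2.2.2.2.2.2.2.2.2.2.2.2.2.1
  -- a Sylow 2-subgroup through the series fixes the point 1
  have h4096 : 2 ^ 12 ∣ Nat.card ↥(stabilizer ↥L' p1) := by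
    let Q : Subgroup ↥L' := (wsub qW).subgroupOf L'
    have hQ : IsPGroup 2 Q := hQpg.of_equiv (Subgroup.subgroupOfEquivOfLe hQL).symm
    obtain ⟨P, hP⟩ := hQ.exists_le_sylow
    have hPc : Nat.card ↥(P : Subgroup ↥L') = 2 ^ 12 := by
      rw [P.card_eq_multiplicity, hL']
      congr 1
      have h1 : 2 ^ 12 ∣ 184320 := by norm_num
      have h2 : ¬ 2 ^ 13 ∣ 184320 := by norm_num
      rw [Nat.prime_two.pow_dvd_iff_le_factorization (by norm_num)] at h1 h2
      omega
    letI act : MulAction ↥(P : Subgroup ↥L') ↥SS :=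
      { smul := fun x y => ⟨x.1.1 • y.1, smul_SS.2 y.2⟩
        one_smul := fun y => Subtype.ext (one_smul MM y.1)
        mul_smul := fun x x' y => Subtype.ext (mul_smul x.1.1 x'.1.1 y.1) }
    obtain ⟨f, hf⟩ := P.isPGroup'.nonempty_fixed_point_of_prime_not_dvd_card ↥SS (by
      rw [Nat.card_eq_finsetCard, card_SS]; norm_num)
    have hfix : ∀ x ∈ Q, (x : MM) • (f : Pt) = f := fun x hx =>
      congrArg Subtype.val (hf ⟨x, hP hx⟩)
    -- the only point fixed by the series
    have hf1 : (f : Pt) = p1 := by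
      obtain ⟨-, O', hOm', hOc', hcov', -, -, hrep'⟩ := orbs_spec qOrbs
      obtain ⟨i, hi⟩ := hcov' f f.2
      obtain ⟨r, hr, hrO, hrt⟩ := hrep' i
      obtain ⟨z, hz, hzf⟩ := hrt f hi
      have hzr : r = (f : Pt) := by
        have hzA : z ∈ subA := wsub_le hq hz
        have hm : (⟨z, hzA⟩ : MM) ∈ wsub qW := hz
        have := hfix ⟨⟨z, hzA⟩, hQL _ hm⟩ hm
        exact smul_left_cancel z (hzf.trans this.symm)
      have hone : O' i = {r} := by
        refine Finset.eq_singleton_iff_unique_mem.2 ⟨hrO, fun x hx => ?_⟩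
        obtain ⟨z', hz', rfl⟩ := hrt x hx
        have hzA : z' ∈ subA := wsub_le hq hz'
        have hm : (⟨z', hzA⟩ : MM) ∈ wsub qW := hz'
        rw [hzr]
        exact hfix ⟨⟨z', hzA⟩, hQL _ hm⟩ hm
      have h1 : qSSize.getD i.val 0 = 1 := by rw [← hOc' i, hone, Finset.card_singleton]
      have hi0 : i.val = 0 := by
        have hi6 : i.val < 6 := by omega
        rw [hsz] at h1
        interval_cases hv : i.val <;> simp_all
      rw [← hzr]
      refine Fin.ext (hr.trans ?_)
      rw [hi0, nbrs.2.2.2.2.2.2.2.2.2.2.2.2.1]; rfl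
    rw [← hPc]
    let φ : ↥(P : Subgroup ↥L') →* ↥(stabilizer ↥L' p1) :=
      { toFun := fun x => ⟨x.1, by rw [mem_stabilizer_iff, ← hf1]; exact congrArg Subtype.val (hf x)⟩
        map_one' := rfl
        map_mul' := fun _ _ => rfl }
    exact Subgroup.card_dvd_of_injective φ fun x y e =>
      Subtype.ext (congrArg (fun z : ↥(stabilizer ↥L' p1) => (z.1 : ↥L')) e)
  have hs45 : S.card ∣ 45 := by
    obtain ⟨c, hc⟩ := h4096
    have := card_orbF L' p1
    rw [← hSdef, hc, hL'] at this
    exact ⟨c, by nlinarith⟩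
  have hinv : ∀ w ∈ qW, ∀ x ∈ S, wd w • x ∈ S := fun w hw x hx =>
    orbF_inv L' p1 ⟨wd w, hq w hw⟩ (hQL _ (Subgroup.subset_closure ⟨w, hw, rfl⟩)) x hx
  obtain ⟨J, hSJ, hScard, -⟩ := exists_sel qOrbs (T := S) hSS hinv
  have hp1S : p1 ∈ S := mem_orbF.2 ⟨1, one_mem _, one_smul _ _⟩
  have h0J : i0 ∈ J := by
    rw [hSJ, Finset.mem_biUnion] at hp1S
    obtain ⟨i, hi, hid⟩ := hp1S
    obtain ⟨r, hr, hrO, -⟩ := hrep i0
    have hr1 : r = p1 := Fin.ext (hr.trans (by rw [show i0.val = 0 from rfl, nbrs.2.2.2.2.2.2.2.2.2.2.2.2.1]; rfl))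
    have : i = i0 := by
      by_contra hne
      exact Finset.disjoint_left.1 (hdis i i0 hne) (by rw [hOm]; exact hid) (hr1 ▸ hrO)
    exact this ▸ hi
  have hcase : S = {p1} ∨ S = mset (qSMask.getD 0 0 ||| qSMask.getD 1 0) := by
    let i1 : Fin qSRep.length := ⟨1, by omega⟩
    have hdec : ∀ K : Finset (Fin qSRep.length), (⟨0, by decide +kernel⟩ : Fin qSRep.length) ∈ K → (∑ k ∈ K, qSSize.getD k.val 0) ∣ 45 →
        ∀ k ∈ K, k.val ≤ 1 := by decide +kernel
    have hle : ∀ i ∈ J.erase i0, i = i1 := by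
      intro i hi
      obtain ⟨hne, hiJ⟩ := Finset.mem_erase.1 hi
      have h1 := hdec J h0J (hScard ▸ hs45) i hiJ
      have a0 : i.val ≠ 0 := fun e => hne (Fin.ext e)
      exact Fin.ext (show i.val = 1 by omega)
    by_cases h1 : i1 ∈ J
    · right
      have hJ : J = {i0, i1} := by
        ext j
        simp only [Finset.mem_insert, Finset.mem_singleton]
        refine ⟨fun hj => ?_, fun hj => by rcases hj with rfl | rfl <;> assumption⟩
        by_cases e : j = i0
        · exact Or.inl e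
        · exact Or.inr (hle j (Finset.mem_erase.2 ⟨e, hj⟩))
      rw [hSJ, hJ]
      ext x
      simp only [Finset.mem_biUnion, Finset.mem_insert, Finset.mem_singleton, mem_mset, Nat.testBit_or,
        Bool.or_eq_true, exists_eq_or_imp, exists_eq_left]
      rfl
    · left
      have hJ : J = {i0} := by
        ext j
        simp only [Finset.mem_singleton]
        refine ⟨fun hj => ?_, fun hj => hj ▸ h0J⟩
        by_contra e
        exact h1 (hle j (Finset.mem_erase.2 ⟨e, hj⟩) ▸ hj)
      refine (Finset.eq_singleton_iff_unique_mem.2 ⟨hp1S, fun x hx => ?_⟩)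
      have hc : S.card = 1 := by rw [hScard, hJ, Finset.sum_singleton, hsz]; rfl
      exact Finset.card_le_one.1 hc.le x hx p1 hp1S
  rcases hcase with hS1 | hS5
  · refine Or.inl ⟨g • p1, smul_SS.2 p1_mem, conj_stab (stab_eq hL' card_stab_p1 fun l hl => ?_)⟩
    have := (mem_orbF (L := L') (x := p1) (y := l • p1)).2 ⟨l, hl, rfl⟩
    rw [← hSdef, hS1, Finset.mem_singleton] at this
    exact this
  right
  -- the five-set
  rw [nbrs.2.2.2.2.2.2.2.2.2.2.2.2.2.2.1] at hS5
  obtain ⟨hbl, hnd, -⟩ := nbrs.2.2.2.2.2.2.2.2.2.2.2.2.2.2.2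
  have hSblk : ∀ x : Pt, x ∈ S ↔ (x : ℕ) ∈ blk := by
    intro x
    rw [hS5, mem_mset]
    generalize blk = l
    induction l with
    | nil => simp
    | cons a l ih =>
      rw [List.foldr_cons, Nat.testBit_or, Bool.or_eq_true, ih, Nat.testBit_two_pow, decide_eq_true_eq,
        List.mem_cons, eq_comm]
  have hS5c : S.card = 5 := by
    rw [← hbl, ← List.toFinset_card_of_nodup hnd, ← Finset.card_map Fin.valEmbedding]
    congr 1
    ext y
    simp only [Finset.mem_map, Fin.valEmbedding_apply, List.mem_toFinset]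
    refine ⟨fun ⟨x, hx, e⟩ => e ▸ (hSblk x).1 hx, fun hy => ?_⟩
    have : y < certA.N := by
      have h : blk.all (fun z => Nat.blt z 1782) = true := by decide +kernel
      simp only [List.all_eq_true, Nat.blt_eq] at h
      rw [N_eq]; exact h y hy
    exact ⟨⟨y, this⟩, (hSblk _).2 hy, rfl⟩
  have hblk := blk_ok
  simp only [blkOK, Bool.and_eq_true] at hblk
  obtain ⟨⟨⟨hmov1, hml⟩, hdist⟩, hew⟩ := hblk
  -- elements fixing the five-set are in the subgroup
  have hstabS : ∀ x : MM, (∀ y ∈ S, x • y ∈ S) → x ∈ L' := by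
    let A : Subgroup MM := stabilizer MM S ⊓ stabilizer MM p1
    let M1 : Subgroup MM := stabilizer MM p1
    have hLA : L' ⊓ M1 ≤ A := by
      intro x hx
      refine ⟨?_, hx.2⟩
      exact Finset.eq_of_subset_of_card_le (fun z hz => by
        obtain ⟨y, hy, rfl⟩ := Finset.mem_smul_finset.1 hz
        exact orbF_inv L' p1 x hx.1 y hy) (by rw [Finset.card_smul_finset])
    have hidx : 5 ≤ (A.subgroupOf M1).index := by
      simp only [List.all_eq_true, List.mem_range, Bool.or_eq_true, Bool.not_eq_true'] at hdist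
      have hw : ∀ i : Fin 5, wd (movW.getD i.val []) ∈ subA ∧ wd (movW.getD i.val []) • p1 = p1 ∧
          ∀ g ∈ movW.getD i.val [], g < 7 := fun i => by
        have hmem : movW.getD i.val [] ∈ movW := by
          rw [List.getD_eq_getElem _ _ (by rw [Nat.eq_of_beq_eq_true hml]; exact i.2)]
          exact List.getElem_mem _
        obtain ⟨h1, h2⟩ := fix_spec (x := p1) hmov1 hmem
        have hf := hmov1
        simp only [fixOK, List.all_eq_true, Bool.and_eq_true, Nat.blt_eq] at hf
        exact ⟨h1, h2, fun g hg => ((hf _ hmem).1 g hg).trans (by norm_num)⟩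
      let e : Fin 5 → ↥M1 ⧸ A.subgroupOf M1 := fun i =>
        ((⟨⟨_, (hw i).1⟩, (hw i).2.1⟩ : ↥M1) : ↥M1 ⧸ A.subgroupOf M1)
      rw [Subgroup.index]
      refine le_trans (by simp) (Nat.card_le_card_of_injective e fun i j he => ?_)
      by_contra hne
      rw [QuotientGroup.eq, Subgroup.mem_subgroupOf] at he
      have hS := mem_stabilizer_iff.1 he.1
      rcases hdist i i.2 j j.2 with h | h
      · exact hne (Fin.ext (Nat.eq_of_beq_eq_true h))
      · rw [← Bool.not_eq_true] at h
        refine h (List.all_eq_true.2 fun x hx => List.any_eq_true.2 ?_)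
        have hx' : x < certA.N := by
          have h : blk.all (fun z => Nat.blt z 1782) = true := by decide +kernel
          simp only [List.all_eq_true, Nat.blt_eq] at h
          rw [N_eq]; exact h x hx
        set u : MM := ⟨_, (hw i).1⟩
        set v : MM := ⟨_, (hw j).1⟩
        change (u⁻¹ * v) • S = S at hS
        have hvS : v • S = u • S := by rw [mul_smul, inv_smul_eq_iff] at hS; exact hS
        have hxs : u • (⟨x, hx'⟩ : Pt) ∈ v • S := by
          rw [hvS]; exact Finset.smul_mem_smul_finset ((hSblk _).2 hx)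
        obtain ⟨z, hz, hze⟩ := Finset.mem_smul_finset.1 hxs
        refine ⟨(z : ℕ), (hSblk z).1 hz, ?_⟩
        rw [Nat.beq_eq, ← wd_smul (hw j).2.2 z, ← wd_smul (hw i).2.2 ⟨x, hx'⟩]
        exact congrArg Fin.val hze.symm
    have hcardA : Nat.card ↥A ≤ 36864 := by
      have h := (A.subgroupOf M1).card_mul_index
      rw [Nat.card_congr (Subgroup.subgroupOfEquivOfLe (inf_le_right : A ≤ M1)).toEquiv, card_stab_p1] at h
      nlinarith
    have hcardL : Nat.card ↥(L' ⊓ M1 : Subgroup MM) = 36864 := by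
      have h := card_orbF L' p1
      rw [← hSdef, hS5c, hL'] at h
      have e : Nat.card ↥(stabilizer ↥L' p1) = Nat.card ↥(L' ⊓ M1 : Subgroup MM) := Nat.card_congr
        { toFun := fun x => ⟨x.1.1, x.1.2, x.2⟩
          invFun := fun x => ⟨⟨x.1, x.2.1⟩, x.2.2⟩
          left_inv := fun x => rfl
          right_inv := fun x => rfl }
      omega
    have hAeq : L' ⊓ M1 = A := Subgroup.eq_of_le_of_card_ge hLA (by rw [hcardL]; exact hcardA)
    intro x hx
    obtain ⟨l, hl, hle⟩ := mem_orbF.1 (hx p1 hp1S)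
    have hm : l⁻¹ * x ∈ A := by
      refine ⟨?_, show (l⁻¹ * x) • p1 = p1 by rw [mul_smul, inv_smul_eq_iff]; exact hle.symm⟩
      exact Finset.eq_of_subset_of_card_le (fun z hz => by
        obtain ⟨y, hy, rfl⟩ := Finset.mem_smul_finset.1 hz
        rw [mul_smul]
        exact orbF_inv L' p1 _ (inv_mem hl) _ (hx y hy)) (by rw [Finset.card_smul_finset])
    rw [← hAeq] at hm
    have := mul_mem hl hm.1
    rwa [mul_inv_cancel_left] at this
  intro T hT hTinv hT96
  simp only [List.all_eq_true, Bool.and_eq_true, Nat.blt_eq, List.any_eq_true] at hew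
  set T' := g⁻¹ • T
  have hT' : T' ⊆ DS := fun x hx => by
    obtain ⟨y, hy, rfl⟩ := Finset.mem_smul_finset.1 hx
    exact smul_DS.2 (hT hy)
  have hT'inv : ∀ w ∈ eW, ∀ x ∈ T', wd w • x ∈ T' := by
    intro w hw x hx
    obtain ⟨hw6, hwb⟩ := hew w hw
    let u : MM := ⟨wd w, wd_mem hw6⟩
    have hu : u ∈ L' := hstabS u fun y hy => by
      rw [hSblk]
      obtain ⟨z, hz, e⟩ := hwb y ((hSblk y).1 hy)
      rw [show ((u • y : Pt) : ℕ) = certA.run y (certA.revInv w) from
        wd_smul (fun g hg => (hw6 g hg).trans (by norm_num)) y, Nat.eq_of_beq_eq_true e]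
      exact hz
    obtain ⟨v, hv, hve⟩ := hu
    obtain ⟨y, hy, rfl⟩ := Finset.mem_smul_finset.1 hx
    show u • (g⁻¹ • y) ∈ g⁻¹ • T
    rw [← hve]
    simp only [MulEquiv.coe_toMonoidHom, MulAut.conj_apply, inv_inv, mul_smul, smul_inv_smul]
    exact Finset.smul_mem_smul_finset (hTinv v hv y hy)
  obtain ⟨J', -, hJc, -⟩ := exists_sel eOrbs (T := T') hT' hT'inv
  rw [Finset.card_smul_finset, hT96] at hJc
  have hlen2 : eDRep.length = 2 := by decide +kernel
  have key : ∀ i ∈ J', 160 ≤ eDSize.getD i.val 0 := fun i _ => by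
    have : i.val < 2 := by omega
    rw [nbrs.2.2.2.2.2.2.2.2.2.2.2.1]
    interval_cases hv : i.val <;> simp
  rcases J'.eq_empty_or_nonempty with h | ⟨i, hi⟩
  · rw [h] at hJc; simp at hJc
  · have := Finset.single_le_sum (f := fun j : Fin eDRep.length => eDSize.getD j.val 0)
      (fun _ _ => Nat.zero_le _) hi
    have := key i hi
    omega

end CfsgLib.SuzRec
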